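import Cfsg.Agent.Fus.Normal3

/-!
Transport of maps of an invariant subsystem along automorphisms of its underlying group (helper27).
-/

set_option autoImplicit false

namespace Cfsg.Agent.Lib.Helper27.Fus

open Cfsg Cfsg.FusionSystem Cfsg.Agent.Fus

variable {Ω : Type*} [Group Ω] {S T : Subgroup Ω}

/-- The image of `P ∩ T` under the automorphism `α` of `T`, as a subgroup of the ambient group. -/
abbrev imgAut (α : MulAut T) (P : Subgroup Ω) : Subgroup Ω :=
  (P.subgroupOf T).map (T.subtype.comp α.toMonoidHom)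

theorem imgAut_le (α : MulAut T) (P : Subgroup Ω) : imgAut α P ≤ T := by
  rintro _ ⟨x, -, rfl⟩
  exact (α x).2

theorem mem_imgAut {α : MulAut T} {P : Subgroup Ω} {y : Ω} :
    y ∈ imgAut α P ↔ ∃ x : T, (x : Ω) ∈ P ∧ ((α x : T) : Ω) = y := by
  constructor
  · rintro ⟨x, hx, rfl⟩
    exact ⟨x, Subgroup.mem_subgroupOf.1 hx, rfl⟩
  · rintro ⟨x, hx, rfl⟩
    exact ⟨x, Subgroup.mem_subgroupOf.2 hx, rfl⟩

theorem apply_mem_imgAut (α : MulAut T) {P : Subgroup Ω} {x : T} (hx : (x : Ω) ∈ P) :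
    ((α x : T) : Ω) ∈ imgAut α P := mem_imgAut.2 ⟨x, hx, rfl⟩

theorem imgAut_mono (α : MulAut T) {P P' : Subgroup Ω} (h : P ≤ P') : imgAut α P ≤ imgAut α P' := by
  intro y hy
  obtain ⟨x, hx, rfl⟩ := mem_imgAut.1 hy
  exact apply_mem_imgAut α (h hx)

theorem imgAut_inv_imgAut (α : MulAut T) {P : Subgroup Ω} (hP : P ≤ T) : imgAut α⁻¹ (imgAut α P) = P := by
  ext y
  rw [mem_imgAut]
  constructor
  · rintro ⟨x, hx, rfl⟩
    obtain ⟨z, hz, hzx⟩ := mem_imgAut.1 hx
    have : α z = x := Subtype.ext hzx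
    rw [← this, MulAut.inv_apply_self]
    exact hz
  · intro hy
    exact ⟨α ⟨y, hP hy⟩, apply_mem_imgAut α hy, by rw [MulAut.inv_apply_self]⟩

theorem imgAut_imgAut_inv (α : MulAut T) {P : Subgroup Ω} (hP : P ≤ T) : imgAut α (imgAut α⁻¹ P) = P := by
  have := imgAut_inv_imgAut α⁻¹ hP
  rwa [inv_inv] at this

/-- The restriction of `α` to `P ≤ T` as an isomorphism onto its image. -/
noncomputable def resEquiv (α : MulAut T) {P : Subgroup Ω} (hP : P ≤ T) : P ≃* imgAut α P :=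
  MulEquiv.ofBijective
    (((T.subtype.comp α.toMonoidHom).comp (Subgroup.inclusion hP)).codRestrict (imgAut α P)
      (fun x => apply_mem_imgAut α (x := Subgroup.inclusion hP x) x.2))
    ⟨fun a b hab => by
      have h1 : ((α (Subgroup.inclusion hP a) : T) : Ω) = α (Subgroup.inclusion hP b) :=
        congrArg (fun z : imgAut α P => (z : Ω)) hab
      have h2 := α.injective (Subtype.ext h1)
      exact Subgroup.inclusion_injective hP h2,
     fun y => by
      obtain ⟨x, hx, hxy⟩ := mem_imgAut.1 y.2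
      exact ⟨⟨x, hx⟩, Subtype.ext hxy⟩⟩

@[simp] theorem resEquiv_coe (α : MulAut T) {P : Subgroup Ω} (hP : P ≤ T) (x : P) :
    ((resEquiv α hP x : imgAut α P) : Ω) = ((α ⟨x, hP x.2⟩ : T) : Ω) := rfl

theorem isMor_resEquiv (F : FusionSystem S) (hT : T ≤ S) {α : MulAut T} (hα : α ∈ F.autGroup T)
    {P : Subgroup Ω} (hP : P ≤ T) : F.IsMor (resEquiv α hP).toMonoidHom :=
  F.restrict_mem ((F.mem_autGroup_iff hT α).1 hα) hP

/-- Typed form of the invariance condition. -/
theorem IsInvariantIn.isMor_transport {E : FusionSystem T} {F : FusionSystem S} (h : E.IsInvariantIn F)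
    {α : MulAut T} (hα : α ∈ F.autGroup T) {P P' : Subgroup Ω} (hP : P ≤ T) (hP' : P' ≤ T) {f : P →* P'}
    (hf : E.IsMor f) :
    E.IsMor ((resEquiv α hP').toMonoidHom.comp (f.comp (resEquiv α hP).symm.toMonoidHom)) := by
  obtain ⟨χ, hχ, hχx⟩ := h.2.2.1 P hP _ hf α hα
  have : (imgAut α P').subtype.comp
      ((resEquiv α hP').toMonoidHom.comp (f.comp (resEquiv α hP).symm.toMonoidHom)) = χ := by
    ext y
    have h1 := hχx ((resEquiv α hP).symm y) (hP' (f _).2) (resEquiv α hP ((resEquiv α hP).symm y)).2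
    have h2 : (⟨((α ⟨((resEquiv α hP).symm y : P), hP ((resEquiv α hP).symm y).2⟩ : T) : Ω),
        (resEquiv α hP ((resEquiv α hP).symm y)).2⟩ : imgAut α P) = y := by
      have := (resEquiv α hP).apply_symm_apply y
      exact this
    have h3 : χ y = χ ⟨((α ⟨((resEquiv α hP).symm y : P), hP ((resEquiv α hP).symm y).2⟩ : T) : Ω),
        (resEquiv α hP ((resEquiv α hP).symm y)).2⟩ := by
      exact congrArg χ h2.symm
    rw [h3]
    exact h1.symm
  unfold IsMor
  rw [this]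
  exact hχ

/-- The image under `α ∈ Aut_F(T)` of a subgroup normal in the invariant subsystem `E` is normal in `E`. -/
theorem isNormal_imgAut {E : FusionSystem T} {F : FusionSystem S} [Finite T] {p : ℕ} [Fact p.Prime]
    (hT : IsPGroup p T) (hE : E.IsSaturated p) (h : E.IsInvariantIn F) {α : MulAut T}
    (hα : α ∈ F.autGroup T) {R : Subgroup Ω} (hR : E.IsNormal R) : E.IsNormal (imgAut α R) := by
  rw [E.isNormal_iff_extend hT hE _ (imgAut_le α R)]
  intro P hPR φ hφ
  have hPT : P ≤ T := hPR.trans (imgAut_le α R)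
  have hα' : α⁻¹ ∈ F.autGroup T := inv_mem hα
  let f : P →* T := φ.codRestrict T (E.le_of_mem hφ).2
  have hf : E.IsMor f := hφ
  have hf₀ := IsInvariantIn.isMor_transport h hα' hPT le_rfl hf
  have hP₀R : imgAut α⁻¹ P ≤ R := by
    have := imgAut_mono α⁻¹ hPR
    rwa [imgAut_inv_imgAut α hR.1] at this
  obtain ⟨β, hβ, hβx⟩ := hR.exists_aut_extend hP₀R hf₀
  have hβm := (E.mem_autGroup_iff hR.1 β).1 hβ
  have hβ₁ := IsInvariantIn.isMor_transport h hα hR.1 hR.1 hβm
  refine ⟨(resEquiv α hR.1).symm.trans (β.trans (resEquiv α hR.1)), ?_, ?_⟩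
  · rw [E.mem_autGroup_iff (imgAut_le α R)]
    exact hβ₁
  · intro x
    have h1 := hβx (resEquiv α⁻¹ hPT x)
    have h2 : (resEquiv α hR.1).symm (Subgroup.inclusion hPR x) =
        Subgroup.inclusion hP₀R (resEquiv α⁻¹ hPT x) := by
      rw [MulEquiv.symm_apply_eq]
      apply Subtype.ext
      rw [resEquiv_coe]
      have : (⟨((Subgroup.inclusion hP₀R (resEquiv α⁻¹ hPT x) : R) : Ω),
          hR.1 (Subgroup.inclusion hP₀R (resEquiv α⁻¹ hPT x)).2⟩ : T) = α⁻¹ ⟨x, hPT x.2⟩ := rfl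
      rw [this, MulAut.apply_inv_self]
      rfl
    show ((resEquiv α hR.1 (β ((resEquiv α hR.1).symm (Subgroup.inclusion hPR x))) : imgAut α R) : Ω) = φ x
    rw [h2, resEquiv_coe]
    have h3 : (⟨((β (Subgroup.inclusion hP₀R (resEquiv α⁻¹ hPT x)) : R) : Ω),
        hR.1 (β (Subgroup.inclusion hP₀R (resEquiv α⁻¹ hPT x))).2⟩ : T) = α⁻¹ (f x) := by
      apply Subtype.ext
      show ((β (Subgroup.inclusion hP₀R (resEquiv α⁻¹ hPT x)) : R) : Ω) = _
      rw [h1]
      show ((resEquiv α⁻¹ le_rfl (f ((resEquiv α⁻¹ hPT).symm (resEquiv α⁻¹ hPT x))) : imgAut α⁻¹ T) : Ω) = _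
      rw [MulEquiv.symm_apply_apply]
      rfl
    rw [h3, MulAut.apply_inv_self]
    rfl

end Cfsg.Agent.Lib.Helper27.Fus
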