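import Cfsg.Prelude.Def_LocalEven

/-!
`Cfsg.Involves` via spans `H ↞ X ↪ G` (helper27).
-/

set_option autoImplicit false

namespace Cfsg.Agent.Lib.Helper27

open Cfsg

theorem involves_of_span {H G X : Type*} [Group H] [Group G] [Group X] (i : X →* G) (f : X →* H)
    (hi : Function.Injective i) (hf : Function.Surjective f) : Involves H G := by
  let e : X ≃* i.range := MonoidHom.ofInjective hi
  let f' : i.range →* H := f.comp e.symm.toMonoidHom
  have hf' : Function.Surjective f' := hf.comp e.symm.surjective
  have hk : ((f'.ker).map i.range.subtype).subgroupOf i.range = f'.ker := by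
    ext x
    rw [Subgroup.mem_subgroupOf, Subgroup.mem_map]
    constructor
    · rintro ⟨y, hy, hyx⟩
      have : y = x := Subtype.ext hyx
      rwa [← this]
    · intro hx
      exact ⟨x, hx, rfl⟩
  have hn : (((f'.ker).map i.range.subtype).subgroupOf i.range).Normal := by
    rw [hk]; infer_instance
  exact ⟨i.range, (f'.ker).map i.range.subtype, hn,
    ⟨(QuotientGroup.quotientMulEquivOfEq hk).trans (QuotientGroup.quotientKerEquivOfSurjective f' hf')⟩⟩

theorem Involves.exists_span {H G : Type*} [Group H] [Group G] (h : Involves H G) :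
    ∃ (K : Subgroup G) (f : K →* H), Function.Surjective f := by
  obtain ⟨K, R, hn, ⟨e⟩⟩ := h
  exact ⟨K, e.toMonoidHom.comp (QuotientGroup.mk' _), e.surjective.comp (QuotientGroup.mk'_surjective _)⟩

/-- A subgroup of an involved group is involved. -/
theorem Involves.subgroup {H G : Type*} [Group H] [Group G] (h : Involves H G) (Q : Subgroup H) :
    Involves Q G := by
  obtain ⟨K, f, hf⟩ := Involves.exists_span h
  refine involves_of_span (X := Q.comap f) (K.subtype.comp (Q.comap f).subtype) (f.subgroupComap Q) ?_ ?_
  · exact K.subtype_injective.comp (Subgroup.subtype_injective _)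
  · exact f.subgroupComap_surjective_of_surjective Q hf

/-- Involvement passes up along injective homomorphisms. -/
theorem Involves.of_injective {H G G' : Type*} [Group H] [Group G] [Group G'] (h : Involves H G)
    (j : G →* G') (hj : Function.Injective j) : Involves H G' := by
  obtain ⟨K, f, hf⟩ := Involves.exists_span h
  exact involves_of_span (j.comp K.subtype) f (hj.comp K.subtype_injective) hf

/-- A `p`-group involved in a finite group is involved in each of its Sylow `p`-subgroups. -/
theorem Involves.sylow {H G : Type*} [Group H] [Group G] [Finite G] {p : ℕ} [Fact p.Prime]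
    (h : Involves H G) (hH : IsPGroup p H) (T : Sylow p G) : Involves H T := by
  obtain ⟨K, f, hf⟩ := Involves.exists_span h
  obtain ⟨P⟩ : Nonempty (Sylow p K) := inferInstance
  have h1 : (P.mapSurjective hf : Subgroup H) = ⊤ :=
    ((P.mapSurjective hf).3 (Q := ⊤) (hH.of_injective (⊤ : Subgroup H).subtype (Subgroup.subtype_injective _)) le_top).symm
  rw [Sylow.coe_mapSurjective] at h1
  have hP' : IsPGroup p ((P : Subgroup K).map K.subtype) := P.2.map _
  obtain ⟨T', hT'⟩ := hP'.exists_le_sylow
  obtain ⟨g, hg⟩ := MulAction.exists_smul_eq G T' T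
  have key : ∀ x : (P : Subgroup K), g * ((x : K) : G) * g⁻¹ ∈ (T : Subgroup G) := by
    intro x
    rw [← hg]
    rw [Sylow.coe_subgroup_smul, Subgroup.mem_pointwise_smul_iff_inv_smul_mem]
    apply hT'
    rw [MulAut.smul_def, ← map_inv, MulAut.conj_apply]
    refine Subgroup.mem_map.mpr ⟨x, x.2, ?_⟩
    simp only [Subgroup.coe_subtype, inv_inv]
    group
  refine involves_of_span (X := (P : Subgroup K))
    ((((MulAut.conj g).toMonoidHom.comp K.subtype).comp (P : Subgroup K).subtype).codRestrict (T : Subgroup G) key)
    (f.comp (P : Subgroup K).subtype) ?_ ?_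
  · intro a b hab
    have h2 : g * ((a : K) : G) * g⁻¹ = g * ((b : K) : G) * g⁻¹ := congrArg Subtype.val hab
    rw [mul_left_inj, mul_right_inj] at h2
    exact Subtype.ext (Subtype.ext h2)
  · intro y
    have : y ∈ (P : Subgroup K).map f := by rw [h1]; trivial
    obtain ⟨x, hx, rfl⟩ := Subgroup.mem_map.mp this
    exact ⟨⟨x, hx⟩, rfl⟩

end Cfsg.Agent.Lib.Helper27
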