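import Mathlib

/-!
Relative trace (norm) maps for a finite group acting on an abelian group (helper27):
* `exists_complement_fixed`: `C_V(G)` is a direct factor of `C_V(H)` when `|G : H|` is prime to `|V|`;
* `coprime_abelian_decomp`: `V = C_V(G) × [V, G]` when `|G|` is prime to `|V|`.
-/

set_option autoImplicit false

namespace Cfsg.Agent.Lib.Helper27

section comm

variable {V G : Type*} [CommGroup V] [Group G] (ρ : G →* MulAut V) (H : Subgroup G)

/-- The relative trace from `H` to `G`. -/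
noncomputable def relTrace [Fintype (G ⧸ H)] : V →* V := ∏ q : G ⧸ H, (ρ (Quotient.out q)).toMonoidHom

theorem relTrace_apply [Fintype (G ⧸ H)] (v : V) :
    relTrace ρ H v = ∏ q : G ⧸ H, ρ (Quotient.out q) v := by
  simp [relTrace]

theorem relTrace_fixed [Fintype (G ⧸ H)] {v : V} (hv : ∀ h ∈ H, ρ h v = v) (g : G) :
    ρ g (relTrace ρ H v) = relTrace ρ H v := by
  rw [relTrace_apply, map_prod]
  have key : ∀ q : G ⧸ H, ρ g (ρ (Quotient.out q) v) = ρ (Quotient.out (g • q)) v := by
    intro q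
    have h1 : (QuotientGroup.mk (Quotient.out (g • q)) : G ⧸ H) = QuotientGroup.mk (g * Quotient.out q) := by
      rw [QuotientGroup.out_eq']
      conv_lhs => rw [← QuotientGroup.out_eq' q]
      rfl
    have h2 := QuotientGroup.eq.1 h1
    have h3 := hv _ h2
    have h4 : g * Quotient.out q = Quotient.out (g • q) * ((Quotient.out (g • q))⁻¹ * (g * Quotient.out q)) := by
      group
    rw [← MulAut.mul_apply, ← map_mul, h4, map_mul, MulAut.mul_apply, h3]
  rw [Finset.prod_congr rfl (fun q _ => key q)]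
  exact Fintype.prod_equiv (MulAction.toPerm g) _ _ (fun q => rfl)

theorem relTrace_of_fixed [Fintype (G ⧸ H)] {v : V} (hv : ∀ g, ρ g v = v) : relTrace ρ H v = v ^ H.index := by
  rw [relTrace_apply, Finset.prod_congr rfl (fun q _ => hv _), Finset.prod_const, Finset.card_univ,
    Subgroup.index_eq_card, Nat.card_eq_fintype_card]

theorem exists_complement_fixed [Finite V] [H.FiniteIndex] (hcop : (Nat.card V).Coprime H.index) :
    ∃ K : Subgroup V, (∀ v ∈ K, ∀ h ∈ H, ρ h v = v) ∧ (∀ v ∈ K, (∀ g, ρ g v = v) → v = 1) ∧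
      ∀ v, (∀ h ∈ H, ρ h v = v) → ∃ c k, (∀ g, ρ g c = c) ∧ k ∈ K ∧ v = c * k := by
  classical
  haveI : Fintype (G ⧸ H) := Fintype.ofFinite _
  let K : Subgroup V :=
    { carrier := {v | (∀ h ∈ H, ρ h v = v) ∧ relTrace ρ H v = 1}
      one_mem' := ⟨fun h _ => map_one _, map_one _⟩
      mul_mem' := by
        rintro a b ⟨ha, ha'⟩ ⟨hb, hb'⟩
        exact ⟨fun h hh => by rw [map_mul, ha h hh, hb h hh], by rw [map_mul, ha', hb', one_mul]⟩
      inv_mem' := by
        rintro a ⟨ha, ha'⟩
        exact ⟨fun h hh => by rw [map_inv, ha h hh], by rw [map_inv, ha', inv_one]⟩ }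
  have hinj : Function.Injective (fun v : V => v ^ H.index) := (powCoprime hcop).injective
  refine ⟨K, fun v hv => hv.1, fun v hv hfix => ?_, fun v hv => ?_⟩
  · have h1 := relTrace_of_fixed ρ H hfix
    rw [hv.2] at h1
    apply hinj
    show v ^ H.index = 1 ^ H.index
    rw [← h1, one_pow]
  · set c := (powCoprime hcop).symm (relTrace ρ H v) with hc
    have hcn : c ^ H.index = relTrace ρ H v := (powCoprime hcop).apply_symm_apply _
    have hcfix : ∀ g, ρ g c = c := by
      intro g
      apply hinj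
      show (ρ g c) ^ H.index = c ^ H.index
      rw [← map_pow, hcn, relTrace_fixed ρ H hv]
    refine ⟨c, c⁻¹ * v, hcfix, ⟨fun h hh => by rw [map_mul, map_inv, hcfix, hv h hh], ?_⟩, by group⟩
    rw [map_mul, map_inv, relTrace_of_fixed ρ H hcfix, hcn, inv_mul_cancel]

theorem coprime_comm_decomp [Finite V] [Finite G] (hcop : (Nat.card V).Coprime (Nat.card G)) :
    (∀ v ∈ Subgroup.closure {w : V | ∃ (u : V) (g : G), w = u⁻¹ * ρ g u}, (∀ g, ρ g v = v) → v = 1) ∧
      ∀ v : V, ∃ c k, (∀ g, ρ g c = c) ∧ k ∈ Subgroup.closure {w : V | ∃ (u : V) (g : G), w = u⁻¹ * ρ g u} ∧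
        v = c * k := by
  classical
  haveI : Fintype G := Fintype.ofFinite _
  set B := Subgroup.closure {w : V | ∃ (u : V) (g : G), w = u⁻¹ * ρ g u} with hB
  let tr : V →* V := ∏ g : G, (ρ g).toMonoidHom
  have tr_apply : ∀ v, tr v = ∏ g : G, ρ g v := by
    intro v
    simp [tr]
  have tr_map : ∀ (g : G) (v : V), tr (ρ g v) = tr v := by
    intro g v
    rw [tr_apply, tr_apply]
    refine Fintype.prod_equiv (Equiv.mulRight g) _ _ (fun x => ?_)
    rw [Equiv.coe_mulRight, map_mul, MulAut.mul_apply]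
  have map_tr : ∀ (g : G) (v : V), ρ g (tr v) = tr v := by
    intro g v
    rw [tr_apply, map_prod]
    refine Fintype.prod_equiv (Equiv.mulLeft g) _ _ (fun x => ?_)
    rw [Equiv.coe_mulLeft, map_mul, MulAut.mul_apply]
  have tr_fixed : ∀ v, (∀ g, ρ g v = v) → tr v = v ^ Nat.card G := by
    intro v hv
    rw [tr_apply, Finset.prod_congr rfl (fun q _ => hv _), Finset.prod_const, Finset.card_univ,
      Nat.card_eq_fintype_card]
  have hBker : ∀ v ∈ B, tr v = 1 := by
    have : B ≤ tr.ker := by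
      rw [hB, Subgroup.closure_le]
      rintro _ ⟨u, g, rfl⟩
      rw [SetLike.mem_coe, MonoidHom.mem_ker, map_mul, map_inv, tr_map, inv_mul_cancel]
    exact fun v hv => this hv
  have hinj : Function.Injective (fun v : V => v ^ Nat.card G) := (powCoprime hcop).injective
  refine ⟨fun v hv hfix => ?_, fun v => ?_⟩
  · apply hinj
    show v ^ Nat.card G = 1 ^ Nat.card G
    rw [← tr_fixed v hfix, hBker v hv, one_pow]
  · set c := (powCoprime hcop).symm (tr v) with hc
    have hcn : c ^ Nat.card G = tr v := (powCoprime hcop).apply_symm_apply _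
    have hcfix : ∀ g, ρ g c = c := by
      intro g
      apply hinj
      show (ρ g c) ^ Nat.card G = c ^ Nat.card G
      rw [← map_pow, hcn, map_tr]
    refine ⟨c, c⁻¹ * v, hcfix, ?_, by group⟩
    have h1 : (c⁻¹ * v) ^ Nat.card G ∈ B := by
      rw [mul_pow, inv_pow, hcn, tr_apply]
      have h2 : (∏ g : G, ρ g v)⁻¹ * v ^ Nat.card G = ∏ g : G, (v⁻¹ * ρ g v)⁻¹ := by
        rw [Finset.prod_inv_distrib, Finset.prod_mul_distrib, Finset.prod_const, Finset.card_univ,
          Nat.card_eq_fintype_card, mul_inv, inv_pow, inv_inv, mul_comm]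
      rw [h2]
      exact Subgroup.prod_mem _ (fun g _ => B.inv_mem (Subgroup.subset_closure ⟨v, g, rfl⟩))
    have h3 : (Nat.card G).Coprime (orderOf (c⁻¹ * v)) :=
      (Nat.Coprime.coprime_dvd_left (orderOf_dvd_natCard _) hcop).symm
    obtain ⟨m, hm⟩ := exists_pow_eq_self_of_coprime h3
    rw [← hm]
    exact B.pow_mem h1 m

end comm

/-- `V = C_V(G) × [V, G]` for a coprime action on a commutative group (no `CommGroup` instance needed). -/
theorem coprime_abelian_decomp {V G : Type*} [Group V] [Finite V] [Group G] [Finite G]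
    (hcomm : ∀ a b : V, a * b = b * a) (ρ : G →* MulAut V) (hcop : (Nat.card V).Coprime (Nat.card G)) :
    (∀ v ∈ Subgroup.closure {w : V | ∃ (u : V) (g : G), w = u⁻¹ * ρ g u}, (∀ g, ρ g v = v) → v = 1) ∧
      ∀ v : V, ∃ c k, (∀ g, ρ g c = c) ∧ k ∈ Subgroup.closure {w : V | ∃ (u : V) (g : G), w = u⁻¹ * ρ g u} ∧
        v = c * k := by
  letI : CommGroup V := { ‹Group V› with mul_comm := hcomm }
  exact coprime_comm_decomp ρ hcop

end Cfsg.Agent.Lib.Helper27
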