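import Cfsg.Agent.S2530
import Cfsg.Agent.Lib.Helper27.ThreeTrV

/-!
A 4-string in a set of 3-transpositions defines a homomorphism from the symmetric group of degree 5.
-/

set_option autoImplicit false

namespace Cfsg.Agent.Lib.Helper27.TT

open Cfsg

/-- Elements `a b c e` satisfying the Coxeter relations of type `A₄` define a homomorphism from `S₅`. -/
theorem exists_hom_perm5 {G : Type*} [Group G] {a b c e : G} (ha : a * a = 1) (hb : b * b = 1) (hc : c * c = 1)
    (he : e * e = 1) (hab : (a * b) ^ 3 = 1) (hbc : (b * c) ^ 3 = 1) (hce : (c * e) ^ 3 = 1)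
    (hac : (a * c) ^ 2 = 1) (hae : (a * e) ^ 2 = 1) (hbe : (b * e) ^ 2 = 1) :
    ∃ φ : Equiv.Perm (Fin 5) →* G, φ (Equiv.swap 0 1) = a ∧ φ (Equiv.swap 1 2) = b ∧
      φ (Equiv.swap 2 3) = c ∧ φ (Equiv.swap 3 4) = e := by
  obtain ⟨cs, hcs⟩ := Cfsg.Agent.S2530.result 4
  have inv_of : ∀ {x : G}, x * x = 1 → x⁻¹ = x := fun h => inv_eq_of_mul_eq_one_left h
  have flip : ∀ {x y : G} {n : ℕ}, x * x = 1 → y * y = 1 → (x * y) ^ n = 1 → (y * x) ^ n = 1 := by
    intro x y n hx hy h
    have : y * x = (x * y)⁻¹ := by rw [mul_inv_rev, inv_of hx, inv_of hy]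
    rw [this, inv_pow, h, inv_one]
  have hba := flip ha hb hab
  have hcb := flip hb hc hbc
  have hec := flip hc he hce
  have hca := flip ha hc hac
  have hea := flip ha he hae
  have heb := flip hb he hbe
  have hlift : (CoxeterMatrix.A 4).IsLiftable ![a, b, c, e] := by
    intro i j
    fin_cases i <;> fin_cases j <;>
      simp [CoxeterMatrix.A, ha, hb, hc, he, hab, hbc, hce, hac, hae, hbe, hba, hcb, hec, hca, hea, heb]
  refine ⟨cs.lift ⟨![a, b, c, e], hlift⟩, ?_, ?_, ?_, ?_⟩
  · have := cs.lift_apply_simple hlift 0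
    rw [hcs] at this
    exact this
  · have := cs.lift_apply_simple hlift 1
    rw [hcs] at this
    exact this
  · have := cs.lift_apply_simple hlift 2
    rw [hcs] at this
    exact this
  · have := cs.lift_apply_simple hlift 3
    rw [hcs] at this
    exact this

/-- A homomorphism from `S₅` not killing a 3-cycle is injective. -/
theorem perm5_injective {G : Type*} [Group G] (φ : Equiv.Perm (Fin 5) →* G)
    (h : φ (Equiv.swap 0 1 * Equiv.swap 1 2) ≠ 1) : Function.Injective φ := by
  rw [← MonoidHom.ker_eq_bot_iff]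
  by_contra hne
  have hnt : Nontrivial φ.ker := (Subgroup.nontrivial_iff_ne_bot _).2 hne
  have hle := Equiv.Perm.alternatingGroup_le_of_normal (α := Fin 5) (by simp) hnt
  apply h
  have hmem : (Equiv.swap 0 1 * Equiv.swap 1 2 : Equiv.Perm (Fin 5)) ∈ alternatingGroup (Fin 5) := by
    rw [Equiv.Perm.mem_alternatingGroup]
    decide
  exact hle hmem

theorem four_string {G : Type*} [Group G] {D : Set G} (hD : IsThreeTranspositionSet D) {a b c e : G}
    (ha : a ∈ D) (hb : b ∈ D) (hc : c ∈ D) (he : e ∈ D) (hac : Commute a c) (hae : Commute a e)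
    (hbe : Commute b e) (hab : ¬ Commute a b) (hbc : ¬ Commute b c) (hce : ¬ Commute c e) :
    ∃ φ : Equiv.Perm (Fin 5) →* G, Function.Injective φ ∧ φ (Equiv.swap 0 1) = a ∧
      φ (Equiv.swap 1 2) = b ∧ φ (Equiv.swap 2 3) = c ∧ φ (Equiv.swap 3 4) = e := by
  obtain ⟨φ, h1, h2, h3, h4⟩ := exists_hom_perm5 (sq hD ha) (sq hD hb) (sq hD hc) (sq hD he)
    (cube_of_not_commute hD ha hb hab) (cube_of_not_commute hD hb hc hbc) (cube_of_not_commute hD hc he hce)
    ((commute_iff hD ha hc).1 hac) ((commute_iff hD ha he).1 hae) ((commute_iff hD hb he).1 hbe)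
  refine ⟨φ, perm5_injective φ ?_, h1, h2, h3, h4⟩
  rw [map_mul, h1, h2]
  intro h
  apply hab
  have : a = b := by
    rw [← inv_eq hD hb]
    exact eq_inv_of_mul_eq_one_left h
  rw [this]

end Cfsg.Agent.Lib.Helper27.TT
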