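import Cfsg.Agent.Fus.Central
import Cfsg.Agent.Fus.Normal3

/-!
The centre of a fusion system through a normal subgroup (helper27).
-/

set_option autoImplicit false

namespace Cfsg.Agent.Lib.Helper27.Fus

open Cfsg Cfsg.FusionSystem Cfsg.Agent.Fus

variable {Ω : Type*} [Group Ω] {S : Subgroup Ω}

theorem mem_center_imp (F : FusionSystem S) [Finite S] {p : ℕ} [Fact p.Prime]
    (hS : IsPGroup p S) (hF : F.IsSaturated p) {x : Ω} (hx : x ∈ F.center) :
    x ∈ S ∧ ∀ y : Ω, F.IsConjElt x y → y = x := by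
  obtain ⟨h1, h2⟩ := (F.isCentral_iff hS hF _).1 F.isCentral_center
  exact ⟨h1 hx, h2 x hx⟩

/-- Elements of the centre of `F` are central in `S`. -/
theorem center_le_center (F : FusionSystem S) [Finite S] {p : ℕ} [Fact p.Prime]
    (hS : IsPGroup p S) (hF : F.IsSaturated p) : F.center ≤ S ⊓ Subgroup.centralizer (S : Set Ω) := by
  intro x hx
  obtain ⟨hxS, h⟩ := mem_center_imp F hS hF hx
  refine Subgroup.mem_inf.mpr ⟨hxS, ?_⟩
  rw [Subgroup.mem_centralizer_iff]
  intro g hg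
  have hle : Subgroup.zpowers x ≤ S := by rw [Subgroup.zpowers_le]; exact hxS
  have h1 : g * x * g⁻¹ = x := h _ ⟨_, F.conj_mem hle hg, rfl⟩
  calc g * x = g * x * g⁻¹ * g := by group
    _ = x * g := by rw [h1]

theorem mem_center_iff_of_normal (F : FusionSystem S) [Finite S] {p : ℕ} [Fact p.Prime]
    (hS : IsPGroup p S) (hF : F.IsSaturated p) {Q : Subgroup Ω} (hQ : F.IsNormal Q) {x : Ω} (hx : x ∈ Q) :
    x ∈ F.center ↔ ∀ α ∈ F.autGroup Q, α ⟨x, hx⟩ = ⟨x, hx⟩ := by
  have hQS : Q ≤ S := hQ.1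
  constructor
  · intro hxc α hα
    obtain ⟨-, h⟩ := mem_center_imp F hS hF hxc
    have hle : Subgroup.zpowers x ≤ Q := by rw [Subgroup.zpowers_le]; exact hx
    apply Subtype.ext
    exact h _ ⟨_, F.restrict_mem ((F.mem_autGroup_iff hQS α).1 hα) hle, rfl⟩
  · intro hfix
    have hle : Subgroup.zpowers x ≤ Q := by rw [Subgroup.zpowers_le]; exact hx
    have hc : F.IsCentral (Subgroup.zpowers x) := by
      rw [F.isCentral_iff hS hF]
      refine ⟨hle.trans hQS, ?_⟩
      rintro y' hy' y ⟨φ, hφ, rfl⟩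
      have hle' : Subgroup.zpowers y' ≤ Q := by rw [Subgroup.zpowers_le]; exact hle hy'
      obtain ⟨α, hα, hαx⟩ := hQ.exists_aut_extend hle' hφ
      rw [← hαx]
      obtain ⟨k, rfl⟩ := Subgroup.mem_zpowers_iff.1 hy'
      have h1 : Subgroup.inclusion hle' ⟨x ^ k, Subgroup.mem_zpowers _⟩ = (⟨x, hx⟩ : Q) ^ k := by
        apply Subtype.ext
        simp
      rw [h1, map_zpow, hfix α hα]
      simp
    exact (le_sSup hc : Subgroup.zpowers x ≤ F.center) (Subgroup.mem_zpowers x)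

end Cfsg.Agent.Lib.Helper27.Fus
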