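import Cfsg.Agent.Fus.Focal
import Cfsg.Agent.Fus.Quot2

/-!
Hyperfocal subgroup: reduction to `p'`-automorphisms.
-/

set_option autoImplicit false

namespace Cfsg.Agent.Lib.Helper27.Fus

open Cfsg Cfsg.FusionSystem Cfsg.Agent.Fus

variable {Ω : Type*} [Group Ω] {S : Subgroup Ω}

/-- To bound the hyperfocal subgroup it suffices to look at `p'`-automorphisms. -/
theorem hyperfocal_le_iff_coprime (F : FusionSystem S) (p : ℕ) (T : Subgroup Ω) :
    F.hyperfocalSubgroup p ≤ T ↔ ∀ (P : Subgroup Ω), P ≤ S → ∀ α ∈ F.autGroup P,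
      Nat.Coprime (orderOf α) p → ∀ x : P, (x : Ω)⁻¹ * ((α x : P) : Ω) ∈ T := by
  rw [hyperfocal_le_iff]
  constructor
  · intro h P hP α hα hco x
    refine h P hP α ?_ x
    rw [opOf_eq_closure]
    exact Subgroup.subset_closure ⟨hα, hco⟩
  · intro h P hP α hα
    rw [opOf_eq_closure] at hα
    induction hα using Subgroup.closure_induction with
    | mem a ha => exact h P hP a ha.1 ha.2
    | one => intro x; simp
    | mul a b _ _ iha ihb =>
      intro x
      have h1 := ihb x
      have h2 := iha (b x)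
      have h3 : (x : Ω)⁻¹ * (((a * b) x : P) : Ω)
          = ((x : Ω)⁻¹ * ((b x : P) : Ω)) * (((b x : P) : Ω)⁻¹ * ((a (b x) : P) : Ω)) := by
        rw [MulAut.mul_apply]; group
      rw [h3]
      exact T.mul_mem h1 h2
    | inv a _ iha =>
      intro x
      have h1 := iha (a⁻¹ x)
      rw [MulAut.apply_inv_self] at h1
      have h2 := T.inv_mem h1
      have h3 : ((((a⁻¹ x : P) : Ω))⁻¹ * (x : Ω))⁻¹ = (x : Ω)⁻¹ * ((a⁻¹ x : P) : Ω) := by group
      rwa [h3] at h2

/-- A `p'`-element of a quotient lifts to a `p'`-power of any lift. -/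
theorem exists_pow_coprime_lift {A B : Type*} [Group A] [Group B] [Finite A] (p : ℕ) [Fact p.Prime]
    (β : A) (β' : B) (hco : Nat.Coprime (orderOf β') p) :
    ∃ j : ℕ, Nat.Coprime (orderOf (β ^ j)) p ∧ β' ^ j = β' := by
  have hp : p.Prime := Fact.out
  set a := (orderOf β).factorization p with ha
  have h0 : orderOf β ≠ 0 := (orderOf_pos β).ne'
  have hco2 : Nat.Coprime (p ^ a) (orderOf β') := (Nat.Coprime.pow_right a hco).symm
  by_cases h1 : orderOf β' = 1
  · refine ⟨p ^ a, ?_, ?_⟩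
    · rw [orderOf_pow' _ (pow_ne_zero _ hp.ne_zero), Nat.gcd_eq_right (Nat.ordProj_dvd _ _)]
      exact Nat.coprime_ordCompl hp h0 |>.symm
    · rw [orderOf_eq_one_iff] at h1
      rw [h1, one_pow]
  · have h00 : orderOf β' ≠ 0 := by
      intro h; rw [h] at hco; simp at hco; exact hp.one_lt.ne' hco
    have hlt : 1 < orderOf β' := by omega
    obtain ⟨k, -, hk⟩ := Nat.exists_mul_mod_eq_one_of_coprime hco2 hlt
    refine ⟨p ^ a * k, ?_, ?_⟩
    · have hd : orderOf (β ^ (p ^ a * k)) ∣ orderOf β / p ^ a := by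
        apply orderOf_dvd_of_pow_eq_one
        rw [← pow_mul, mul_right_comm, Nat.mul_div_cancel' (Nat.ordProj_dvd _ _), pow_mul, pow_orderOf_eq_one,
          one_pow]
      exact Nat.Coprime.coprime_dvd_left hd (Nat.coprime_ordCompl hp h0).symm
    · rw [← pow_mod_orderOf, hk, pow_one]

end Cfsg.Agent.Lib.Helper27.Fus
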