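import Cfsg.Agent.Fus.KNorm
import Cfsg.Agent.Fus.Sat3
import Cfsg.Agent.Fus.Grp
import Cfsg.Agent.Fus.Quot2
import Cfsg.Agent.Lib.Helper27.FusAutSys

/-!
Saturation of the `K`-normalizer fusion systems `N_F^K(Q)` (AKO, Theorem I.5.5), in particular of
`N_F(Q)` for `Q` fully normalized and of `C_F(Q)` for `Q` fully centralized.
-/

set_option autoImplicit false

namespace Cfsg.Agent.Lib.Helper27.Fus

open Cfsg Cfsg.FusionSystem Cfsg.Agent.Fus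

variable {Ω : Type*} [Group Ω] {S : Subgroup Ω}

theorem congr_apply_apply {W W' : Subgroup Ω} (e : W ≃* W') (a : MulAut W) (x : W) :
    MulAut.congr e a (e x) = e (a x) := by
  show e (a (e.symm (e x))) = _
  rw [MulEquiv.symm_apply_apply]

theorem congr_trans_aut {W W' : Subgroup Ω} (e : W ≃* W') (α : MulAut W') (a : MulAut W) :
    MulAut.congr (e.trans α) a = α * MulAut.congr e a * α⁻¹ := by
  ext y
  obtain ⟨x, rfl⟩ := (e.trans α).surjective y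
  rw [congr_apply_apply]
  show ((α (e (a x)) : W') : Ω) = ((α (MulAut.congr e a (α⁻¹ (α (e x)))) : W') : Ω)
  rw [MulAut.inv_apply_self, congr_apply_apply]

theorem congr_trans {W W' W'' : Subgroup Ω} (e : W ≃* W') (e' : W' ≃* W'') (a : MulAut W) :
    MulAut.congr (e.trans e') a = MulAut.congr e' (MulAut.congr e a) := by
  ext y
  obtain ⟨x, rfl⟩ := (e.trans e').surjective y
  rw [congr_apply_apply]
  show ((e' (e (a x)) : W'') : Ω) = ((MulAut.congr e' (MulAut.congr e a) (e' (e x)) : W'') : Ω)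
  rw [congr_apply_apply, congr_apply_apply]

/-- Lemma 1: every subgroup `W₀` with a group `A₀` of `F`-automorphisms can be moved to a receptive subgroup on
which the automorphisms induced by `S` contain a Sylow subgroup of the transported group. -/
theorem exists_sylow_adjust (F : FusionSystem S) [Finite S] {p : ℕ} [Fact p.Prime]
    (hS : IsPGroup p S) (hF : F.IsSaturated p) {W₀ : Subgroup Ω} (hW₀ : W₀ ≤ S) (A₀ : Subgroup (MulAut W₀))
    (hA₀ : A₀ ≤ F.autGroup W₀) :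
    ∃ (W₁ : Subgroup Ω) (e : W₀ ≃* W₁), F.IsMor e.toMonoidHom ∧ F.IsReceptive W₁ ∧
      IsSylowIn p (autInducedBy S W₁ ⊓ A₀.map (MulAut.congr e).toMonoidHom)
        (A₀.map (MulAut.congr e).toMonoidHom) := by
  obtain ⟨W₁, hconj, hfa, hrec⟩ := hF W₀ hW₀
  obtain ⟨e₁, he₁⟩ := F.isConj_iff.1 hconj
  have hW₁ : W₁ ≤ S := hrec.1
  have hfin : Finite W₁ := finite_of_le hW₁
  have hA₁ : A₀.map (MulAut.congr e₁).toMonoidHom ≤ F.autGroup W₁ := by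
    rintro _ ⟨a, ha, rfl⟩
    exact F.congr_mem_autGroup he₁ (hA₀ ha)
  obtain ⟨T₁, -, hT₁A, hT₁⟩ := exists_isSylowIn p (A₀.map (MulAut.congr e₁).toMonoidHom) (K := ⊥) bot_le
    IsPGroup.of_bot
  obtain ⟨α, hα, hαT⟩ := hfa.isSylowIn.exists_conj_le (hT₁A.trans hA₁) (hT₁.isPGroup hT₁A)
  have hαm : F.IsMor (α : W₁ ≃* W₁).toMonoidHom := (F.mem_autGroup_iff hW₁ α).1 hα
  have hmap : A₀.map (MulAut.congr (e₁.trans α)).toMonoidHom =
      (A₀.map (MulAut.congr e₁).toMonoidHom).map (MulAut.conj α).toMonoidHom := by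
    ext β
    constructor
    · rintro ⟨a, ha, rfl⟩
      exact ⟨_, ⟨a, ha, rfl⟩, (congr_trans_aut e₁ α a).symm⟩
    · rintro ⟨_, ⟨a, ha, rfl⟩, rfl⟩
      exact ⟨a, ha, congr_trans_aut e₁ α a⟩
  refine ⟨W₁, e₁.trans α, hαm.comp F he₁, hrec, ?_⟩
  rw [hmap]
  have h2 := hT₁.map_equiv hT₁A (MulAut.conj α)
  have hle : T₁.map (MulAut.conj α).toMonoidHom ≤ autInducedBy S W₁ ⊓
      (A₀.map (MulAut.congr e₁).toMonoidHom).map (MulAut.conj α).toMonoidHom := by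
    refine le_inf ?_ (Subgroup.map_mono hT₁A)
    rintro _ ⟨t, ht, rfl⟩
    exact hαT t ht
  exact h2.of_card_le (Subgroup.map_mono hT₁A) inf_le_right
    ((isPGroup_autInducedBy hS).to_le inf_le_left) (Subgroup.card_le_of_le hle)

/-- Lemma 2: pushing the conclusion of Lemma 1 forward along a map defined on a large enough subgroup. -/
theorem push_sylow (F : FusionSystem S) [Finite S] {p : ℕ} [Fact p.Prime]
    (hS : IsPGroup p S) (hF : F.IsSaturated p) {W₁ W' D : Subgroup Ω} (hWD : W₁ ≤ D)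
    (ρ : D →* S) (hρ : F.IsMor ρ) (e : W₁ ≃* W') (he : ∀ x : W₁, ((e x : W') : Ω) = ρ ⟨x, hWD x.2⟩)
    (A₁ : Subgroup (MulAut W₁))
    (hC : centralizerIn S W₁ ≤ D)
    (hN : ∀ g ∈ S, ∀ hg : g ∈ Subgroup.normalizer (W₁ : Set Ω), conjAut g hg ∈ A₁ → g ∈ D)
    (hrec : F.IsReceptive W₁) (hsyl : IsSylowIn p (autInducedBy S W₁ ⊓ A₁) A₁) :
    F.IsReceptive W' ∧ IsSylowIn p (autInducedBy S W' ⊓ A₁.map (MulAut.congr e).toMonoidHom)
      (A₁.map (MulAut.congr e).toMonoidHom) := by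
  have hW₁ : W₁ ≤ S := hrec.1
  have hfin : Finite W₁ := finite_of_le hW₁
  have hem : F.IsMor e.toMonoidHom := by
    have h1 := hρ.restrict F hWD
    exact IsMor.codomain F h1 _ (fun x => he x)
  have hW' : W' ≤ S := (hem.symm F).le F
  have hfin' : Finite W' := finite_of_le hW'
  constructor
  · apply hF.receptive_of_fullyCentralized F hS
    refine ⟨hW', fun R hR => ?_⟩
    have h1 := (hrec.isFullyCentralized F).2 R ((F.isConj_iff.2 ⟨e, hem⟩).trans F hR)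
    refine h1.trans ?_
    have hfinC : Finite (centralizerIn S W') := finite_of_le centralizerIn_le
    have hmem : ∀ c : centralizerIn S W₁, ((ρ ⟨c, hC c.2⟩ : S) : Ω) ∈ centralizerIn S W' := by
      intro c
      refine mem_centralizerIn.2 ⟨(ρ _).2, ?_⟩
      exact map_mem_centralizer ρ e (fun x y hy => by
        rw [he]; congr 2; exact Subtype.ext hy) hWD (mem_centralizerIn.1 c.2).2
    refine Nat.card_le_card_of_injective (fun c : centralizerIn S W₁ => (⟨_, hmem c⟩ : centralizerIn S W')) ?_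
    intro a b hab
    have h2 : ρ ⟨a, hC a.2⟩ = ρ ⟨b, hC b.2⟩ := Subtype.ext (congrArg (fun z : centralizerIn S W' => (z : Ω)) hab)
    have h3 := hρ.injective F h2
    exact Subtype.ext (congrArg (fun z : D => (z : Ω)) h3)
  · have h2 := hsyl.map_equiv inf_le_right (MulAut.congr e)
    have hle : (autInducedBy S W₁ ⊓ A₁).map (MulAut.congr e).toMonoidHom ≤
        autInducedBy S W' ⊓ A₁.map (MulAut.congr e).toMonoidHom := by
      refine le_inf ?_ (Subgroup.map_mono inf_le_right)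
      rintro _ ⟨u, ⟨hu, huA⟩, rfl⟩
      obtain ⟨g, hg, hgS, rfl⟩ := (mem_autInducedBy_iff' u).1 hu
      have hgD := hN g hgS hg huA
      refine (mem_autInducedBy_iff _).2 ⟨ρ ⟨g, hgD⟩, (ρ _).2, fun y => ?_⟩
      obtain ⟨x, rfl⟩ := e.surjective y
      show ((MulAut.congr e (conjAut g hg) (e x) : W') : Ω) = _
      rw [congr_apply_apply, he, he]
      have h3 : (⟨((conjAut g hg x : W₁) : Ω), hWD (conjAut g hg x).2⟩ : D) =
          ⟨g, hgD⟩ * ⟨x, hWD x.2⟩ * ⟨g, hgD⟩⁻¹ := Subtype.ext rfl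
      rw [h3, map_mul, map_mul, map_inv]
      rfl
    exact h2.of_card_le (Subgroup.map_mono inf_le_right) inf_le_right
      ((isPGroup_autInducedBy hS).to_le inf_le_left) (Subgroup.card_le_of_le hle)

/-- The `F`-automorphisms of `W ≥ Q` acting on `Q` as a member of `K`. -/
def actK (F : FusionSystem S) {Q : Subgroup Ω} (K : Subgroup (MulAut Q)) {W : Subgroup Ω} (hQW : Q ≤ W) :
    Subgroup (MulAut W) where
  carrier := {α | α ∈ F.autGroup W ∧ ∃ κ ∈ K, ∀ x : Q, α ⟨x, hQW x.2⟩ = ⟨κ x, hQW (κ x).2⟩}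
  one_mem' := ⟨Subgroup.one_mem _, 1, K.one_mem, fun _ => rfl⟩
  mul_mem' := by
    rintro a b ⟨ha, κ, hκ, h⟩ ⟨hb, κ', hκ', h'⟩
    refine ⟨Subgroup.mul_mem _ ha hb, κ * κ', K.mul_mem hκ hκ', fun x => ?_⟩
    rw [MulAut.mul_apply, h', h]
    rfl
  inv_mem' := by
    rintro a ⟨ha, κ, hκ, h⟩
    refine ⟨Subgroup.inv_mem _ ha, κ⁻¹, K.inv_mem hκ, fun x => ?_⟩
    have h1 := h (κ⁻¹ x)
    have h2 : (⟨((κ (κ⁻¹ x) : Q) : Ω), hQW (κ (κ⁻¹ x)).2⟩ : W) = ⟨x, hQW x.2⟩ := by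
      apply Subtype.ext
      show ((κ (κ⁻¹ x) : Q) : Ω) = x
      rw [MulAut.apply_inv_self]
    rw [h2] at h1
    rw [← h1, MulAut.inv_apply_self]

/-- The group of `F`-automorphisms of `W` preserving `P` and acting on `Q` as a member of `K`. -/
abbrev pairAut (F : FusionSystem S) {Q : Subgroup Ω} (K : Subgroup (MulAut Q)) {W : Subgroup Ω} (hQW : Q ≤ W)
    (P : Subgroup Ω) : Subgroup (MulAut W) := stabIn (actK F K hQW) P

theorem pairAut_le (F : FusionSystem S) {Q : Subgroup Ω} (K : Subgroup (MulAut Q)) {W : Subgroup Ω}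
    (hQW : Q ≤ W) (P : Subgroup Ω) : pairAut F K hQW P ≤ F.autGroup W := fun _ h => h.1.1

/-- Lemma T: transport of `pairAut` along an isomorphism compatible with the data. -/
theorem pairAut_map_le (F : FusionSystem S) {Q : Subgroup Ω} (K : Subgroup (MulAut Q)) {W W' : Subgroup Ω}
    (hQW : Q ≤ W) (hQW' : Q ≤ W') {P P' : Subgroup Ω} (f : W ≃* W') (hf : F.IsMor f.toMonoidHom)
    (hP : ∀ z : W, (z : Ω) ∈ P ↔ ((f z : W') : Ω) ∈ P') {χ : MulAut Q} (hχ : χ ∈ K)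
    (hfQ : ∀ x : Q, f ⟨x, hQW x.2⟩ = ⟨χ x, hQW' (χ x).2⟩) :
    (pairAut F K hQW P).map (MulAut.congr f).toMonoidHom ≤ pairAut F K hQW' P' := by
  rintro _ ⟨a, ⟨⟨haF, κ, hκ, haκ⟩, haP⟩, rfl⟩
  refine ⟨⟨F.congr_mem_autGroup hf haF, χ * κ * χ⁻¹, K.mul_mem (K.mul_mem hχ hκ) (K.inv_mem hχ), fun x => ?_⟩,
    fun y => ?_⟩
  · have h1 : (⟨x, hQW' x.2⟩ : W') = f ⟨(χ⁻¹ x : Q), hQW (χ⁻¹ x).2⟩ := by
      rw [hfQ]
      apply Subtype.ext
      show (x : Ω) = ((χ (χ⁻¹ x) : Q) : Ω)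
      rw [MulAut.apply_inv_self]
    show MulAut.congr f a ⟨x, hQW' x.2⟩ = _
    rw [h1, congr_apply_apply, haκ, hfQ]
    rfl
  · obtain ⟨z, rfl⟩ := f.surjective y
    show _ ↔ ((MulAut.congr f a (f z) : W') : Ω) ∈ P'
    rw [congr_apply_apply, ← hP, ← hP]
    exact haP z

theorem pairAut_map_eq (F : FusionSystem S) {Q : Subgroup Ω} (K : Subgroup (MulAut Q)) {W W' : Subgroup Ω}
    (hQW : Q ≤ W) (hQW' : Q ≤ W') {P P' : Subgroup Ω} (f : W ≃* W') (hf : F.IsMor f.toMonoidHom)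
    (hP : ∀ z : W, (z : Ω) ∈ P ↔ ((f z : W') : Ω) ∈ P') {χ : MulAut Q} (hχ : χ ∈ K)
    (hfQ : ∀ x : Q, f ⟨x, hQW x.2⟩ = ⟨χ x, hQW' (χ x).2⟩) :
    (pairAut F K hQW P).map (MulAut.congr f).toMonoidHom = pairAut F K hQW' P' := by
  apply le_antisymm (pairAut_map_le F K hQW hQW' f hf hP hχ hfQ)
  intro β hβ
  have h1 := pairAut_map_le F K hQW' hQW (P := P') (P' := P) f.symm (hf.symm F)
    (fun z => by
      have := hP (f.symm z)
      rw [MulEquiv.apply_symm_apply] at this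
      exact this.symm) (K.inv_mem hχ)
    (fun x => by
      rw [MulEquiv.symm_apply_eq, hfQ]
      apply Subtype.ext
      show (x : Ω) = ((χ (χ⁻¹ x) : Q) : Ω)
      rw [MulAut.apply_inv_self])
  refine ⟨MulAut.congr f.symm β, h1 ⟨β, hβ, rfl⟩, ?_⟩
  ext y
  show ((MulAut.congr f (MulAut.congr f.symm β) y : W') : Ω) = _
  obtain ⟨z, rfl⟩ := f.surjective y
  rw [congr_apply_apply]
  show ((f (f.symm (β (f.symm.symm z))) : W') : Ω) = _
  rw [MulEquiv.apply_symm_apply]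
  rfl

/-- Lemma V: a map acting on `Q` as a member of `K` carries `N_S^K(Q)` into itself. -/
theorem map_mem_kNormalizerIn (F : FusionSystem S) {Q : Subgroup Ω} {K : Subgroup (MulAut Q)} {W : Subgroup Ω}
    (hQW : Q ≤ W) {ψ : W →* Ω} (hψ : ψ ∈ F.Hom W) {κ : MulAut Q} (hκ : κ ∈ K)
    (hψκ : ∀ x : Q, ψ ⟨x, hQW x.2⟩ = κ x) {g : W} (hg : (g : Ω) ∈ kNormalizerIn S Q K) :
    ψ g ∈ kNormalizerIn S Q K := by
  obtain ⟨-, κg, hκg, hg'⟩ := hg
  refine ⟨(F.le_of_mem hψ).2 g, κ * κg * κ⁻¹, K.mul_mem (K.mul_mem hκ hκg) (K.inv_mem hκ), fun x => ?_⟩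
  show ((κ (κg (κ⁻¹ x)) : Q) : Ω) = _
  rw [← hψκ]
  have h1 : (⟨((κg (κ⁻¹ x) : Q) : Ω), hQW (κg (κ⁻¹ x)).2⟩ : W) = g * ⟨(κ⁻¹ x : Q), hQW (κ⁻¹ x).2⟩ * g⁻¹ :=
    Subtype.ext (hg' _)
  rw [h1, map_mul, map_mul, map_inv, hψκ, MulAut.apply_inv_self]

/-- Lemma M: restrictions to `P ≤ N_S^K(Q)` of maps acting on `Q` as a member of `K` are maps of `N_F^K(Q)`. -/
theorem restrict_mem_kHom (F : FusionSystem S) {Q : Subgroup Ω} {K : Subgroup (MulAut Q)} {W P : Subgroup Ω}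
    (hPW : P ≤ W) (hQW : Q ≤ W) {ψ : W →* Ω} (hψ : ψ ∈ F.Hom W) {κ : MulAut Q} (hκ : κ ∈ K)
    (hψκ : ∀ x : Q, ψ ⟨x, hQW x.2⟩ = κ x) (hP : P ≤ kNormalizerIn S Q K) :
    ψ.comp (Subgroup.inclusion hPW) ∈ F.kHom Q K P :=
  ⟨hP, fun x => map_mem_kNormalizerIn F hQW hψ hκ hψκ (g := Subgroup.inclusion hPW x) (hP x.2),
    ψ.comp (Subgroup.inclusion (sup_le hPW hQW)), F.restrict_mem hψ _, fun _ => rfl, κ, hκ, hψκ⟩

theorem normalizer_sup_of_mem {Q : Subgroup Ω} {K : Subgroup (MulAut Q)} {P : Subgroup Ω} [Finite ↥(P ⊔ Q)] {g : Ω}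
    (hg : g ∈ kNormalizerIn S Q K) (hgP : g ∈ Subgroup.normalizer (P : Set Ω)) :
    g ∈ Subgroup.normalizer ((P ⊔ Q : Subgroup Ω) : Set Ω) := by
  apply mem_normalizer_of_finite
  have h1 : P ⊔ Q ≤ (P ⊔ Q).comap (MulAut.conj g).toMonoidHom := by
    refine sup_le ?_ ?_
    · intro x hx
      exact Subgroup.mem_sup_left (conj_mem_of_normalizer hgP hx)
    · intro x hx
      obtain ⟨-, κ, -, h⟩ := hg
      show g * x * g⁻¹ ∈ P ⊔ Q
      rw [← h ⟨x, hx⟩]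
      exact Subgroup.mem_sup_right (κ _).2
  intro x hx
  exact h1 hx

section steps

variable (F : FusionSystem S) [Finite S] {p : ℕ} [Fact p.Prime] {Q : Subgroup Ω} (hQ : Q ≤ S)
  (K : Subgroup (MulAut Q))

theorem stabRes_range_pairAut {P : Subgroup Ω} (hP : P ≤ kNormalizerIn S Q K) :
    (stabRes (actK F K (le_sup_right : Q ≤ P ⊔ Q)) (le_sup_left : P ≤ P ⊔ Q)).range =
      (F.kNormalizerSystem Q hQ K).autGroup P := by
  have hWS : P ⊔ Q ≤ S := sup_le (hP.trans kNormalizerIn_le) hQ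
  have hfin : Finite ↥(P ⊔ Q) := finite_of_le hWS
  ext β
  rw [mem_autGroup_iff _ hP]
  constructor
  · rintro ⟨⟨a, ⟨haF, κ, hκ, haκ⟩, haP⟩, rfl⟩
    exact restrict_mem_kHom F le_sup_left le_sup_right ((F.mem_autGroup_iff hWS a).1 haF) hκ
      (fun x => congrArg Subtype.val (haκ x)) hP
  · rintro ⟨-, -, ψ, hψ, hψβ, κ, hκ, hψκ⟩
    have hmem : ∀ z, ψ z ∈ P ⊔ Q := by
      apply forall_mem_sup ((P ⊔ Q).comap ψ)
      · intro x
        show ψ _ ∈ P ⊔ Q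
        rw [hψβ]; exact Subgroup.mem_sup_left (β x).2
      · intro x
        show ψ _ ∈ P ⊔ Q
        rw [hψκ]; exact Subgroup.mem_sup_right (κ x).2
    have hmor : F.IsMor (ψ.codRestrict _ hmem) := F.isMor_codRestrict hψ hmem
    have hbij : Function.Bijective (ψ.codRestrict _ hmem) :=
      ⟨hmor.injective F, Finite.surjective_of_injective (hmor.injective F)⟩
    have haF : equivOfBijective _ hbij ∈ F.autGroup (P ⊔ Q) :=
      (F.mem_autGroup_iff hWS _).2 (F.isMor_equivOfBijective hmor hbij)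
    have hact : (equivOfBijective _ hbij : MulAut ↥(P ⊔ Q)) ∈ actK F K (le_sup_right : Q ≤ P ⊔ Q) :=
      ⟨haF, κ, hκ, fun x => Subtype.ext (hψκ x)⟩
    have hstab : (equivOfBijective _ hbij : MulAut ↥(P ⊔ Q)) ∈ pairAut F K (le_sup_right : Q ≤ P ⊔ Q) P := by
      refine ⟨hact, fun z => ⟨fun hz => ?_, fun hz => ?_⟩⟩
      · show ψ z ∈ P
        have : z = Subgroup.inclusion le_sup_left (⟨z, hz⟩ : P) := rfl
        rw [this, hψβ]
        exact (β _).2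
      · have hz' : ψ z ∈ P := hz
        have h1 := hψβ (β.symm ⟨_, hz'⟩)
        have h2 : (P.subtype.comp β.toMonoidHom) (β.symm ⟨_, hz'⟩) = ψ z := by
          show ((β (β.symm ⟨_, hz'⟩) : P) : Ω) = ψ z
          rw [MulEquiv.apply_symm_apply]
        rw [h2] at h1
        have h3 := F.injective_of_mem hψ h1
        rw [← h3]
        exact (β.symm ⟨_, hz'⟩).2
    refine ⟨⟨_, hstab⟩, ?_⟩
    ext x
    exact hψβ x

include hQ in
theorem stabRes_map_pairAut {P : Subgroup Ω} (hP : P ≤ kNormalizerIn S Q K) :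
    ((autInducedBy S (P ⊔ Q) ⊓ pairAut F K (le_sup_right : Q ≤ P ⊔ Q) P).subgroupOf
      (pairAut F K (le_sup_right : Q ≤ P ⊔ Q) P)).map
        (stabRes (actK F K (le_sup_right : Q ≤ P ⊔ Q)) (le_sup_left : P ≤ P ⊔ Q)) =
      autInducedBy (kNormalizerIn S Q K) P := by
  have hWS : P ⊔ Q ≤ S := sup_le (hP.trans kNormalizerIn_le) hQ
  have hfin : Finite ↥(P ⊔ Q) := finite_of_le hWS
  ext β
  rw [mem_autInducedBy_iff]
  constructor
  · rintro ⟨a, ha, rfl⟩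
    obtain ⟨haS, -⟩ := Subgroup.mem_subgroupOf.1 ha
    obtain ⟨g, hg, hga⟩ := (mem_autInducedBy_iff _).1 haS
    obtain ⟨-, κ, hκ, haκ⟩ := a.2.1
    refine ⟨g, ⟨hg, κ, hκ, fun x => ?_⟩, fun x => hga _⟩
    rw [← hga ⟨x, Subgroup.mem_sup_right x.2⟩, haκ]
  · rintro ⟨g, hg, hgβ⟩
    have hgP := mem_normalizer_of_induces β hgβ
    have hgW := normalizer_sup_of_mem hg hgP
    have hmem : conjAut g hgW ∈ pairAut F K (le_sup_right : Q ≤ P ⊔ Q) P := by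
      obtain ⟨hgS, κ, hκ, h⟩ := hg
      refine ⟨⟨F.autInducedBy_le_autGroup hWS (conjAut_mem hgW hgS), κ, hκ,
        fun x => Subtype.ext (h x).symm⟩, fun z => ?_⟩
      exact Subgroup.mem_normalizer_iff.1 hgP z
    refine ⟨⟨_, hmem⟩, Subgroup.mem_subgroupOf.2 ⟨conjAut_mem hgW hg.1, hmem⟩, ?_⟩
    ext x
    exact (hgβ x).symm

/-- Step (b). -/
theorem kNorm_isFullyAutomized {P : Subgroup Ω} (hP : P ≤ kNormalizerIn S Q K)
    (hsyl : IsSylowIn p (autInducedBy S (P ⊔ Q) ⊓ pairAut F K (le_sup_right : Q ≤ P ⊔ Q) P)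
      (pairAut F K (le_sup_right : Q ≤ P ⊔ Q) P)) :
    (F.kNormalizerSystem Q hQ K).IsFullyAutomized p P := by
  have hWS : P ⊔ Q ≤ S := sup_le (hP.trans kNormalizerIn_le) hQ
  have hfin : Finite ↥(P ⊔ Q) := finite_of_le hWS
  refine ⟨hP, ?_⟩
  have h2 := hsyl.map_range (stabRes (actK F K (le_sup_right : Q ≤ P ⊔ Q)) (le_sup_left : P ≤ P ⊔ Q))
  rw [stabRes_range_pairAut F hQ K hP, stabRes_map_pairAut F hQ K hP] at h2
  exact h2

/-- Step (c). -/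
theorem kNorm_isReceptive (hS : IsPGroup p S) {P : Subgroup Ω} (hP : P ≤ kNormalizerIn S Q K)
    (hrec : F.IsReceptive (P ⊔ Q))
    (hsyl : IsSylowIn p (autInducedBy S (P ⊔ Q) ⊓ pairAut F K (le_sup_right : Q ≤ P ⊔ Q) P)
      (pairAut F K (le_sup_right : Q ≤ P ⊔ Q) P)) :
    (F.kNormalizerSystem Q hQ K).IsReceptive P := by
  refine ⟨hP, ?_⟩
  rintro R φ ⟨hR, hφv, ψ, hψ, hψφ, κ, hκ, hψκ⟩ hrange
  have hVS : R ⊔ Q ≤ S := sup_le (hR.trans kNormalizerIn_le) hQ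
  have hWS : P ⊔ Q ≤ S := sup_le (hP.trans kNormalizerIn_le) hQ
  have hfinV : Finite ↥(R ⊔ Q) := finite_of_le hVS
  have hfinW : Finite ↥(P ⊔ Q) := finite_of_le hWS
  have hψr : ψ.range = P ⊔ Q := by
    apply le_antisymm
    · rintro _ ⟨z, rfl⟩
      revert z
      apply forall_mem_sup ((P ⊔ Q).comap ψ)
      · intro x
        show ψ _ ∈ P ⊔ Q
        rw [hψφ]; exact Subgroup.mem_sup_left (hrange.le ⟨x, rfl⟩)
      · intro x
        show ψ _ ∈ P ⊔ Q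
        rw [hψκ]; exact Subgroup.mem_sup_right (κ x).2
    · refine sup_le ?_ ?_
      · intro y hy
        obtain ⟨x, rfl⟩ := hrange.ge hy
        exact ⟨_, hψφ x⟩
      · intro y hy
        refine ⟨Subgroup.inclusion le_sup_right (κ⁻¹ ⟨y, hy⟩), ?_⟩
        rw [hψκ, MulAut.apply_inv_self]
  obtain ⟨e, he, heapp⟩ : ∃ e : ↥(R ⊔ Q) ≃* ↥(P ⊔ Q), F.IsMor e.toMonoidHom ∧
      ∀ z, ((e z : ↥(P ⊔ Q)) : Ω) = ψ z :=
    ⟨(F.rangeEquiv hψ).trans (MulEquiv.subgroupCongr hψr),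
      IsMor.codomain F (F.isMor_rangeEquiv hψ) _ (fun _ => rfl), fun _ => rfl⟩
  have heQ : ∀ x : Q, e ⟨x, Subgroup.mem_sup_right x.2⟩ = ⟨κ x, Subgroup.mem_sup_right (κ x).2⟩ := fun x =>
    Subtype.ext ((heapp _).trans (hψκ x))
  have heR : ∀ x : R, ((e ⟨x, Subgroup.mem_sup_left x.2⟩ : ↥(P ⊔ Q)) : Ω) = φ x := fun x =>
    (heapp _).trans (hψφ x)
  have hRP : ∀ v : ↥(R ⊔ Q), (v : Ω) ∈ R ↔ ((e v : ↥(P ⊔ Q)) : Ω) ∈ P := by
    intro v
    constructor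
    · intro hv
      have := heR ⟨v, hv⟩
      exact hrange.le ⟨⟨v, hv⟩, this.symm⟩
    · intro hv
      obtain ⟨r, hr⟩ := hrange.ge hv
      rw [← heR r] at hr
      have := e.injective (Subtype.ext hr)
      rw [← this]
      exact r.2
  have hES : extender (kNormalizerIn S Q K) R φ ≤ kNormalizerIn S Q K :=
    (extender_le_normalizerIn _).trans normalizerIn_le
  have hES' : extender (kNormalizerIn S Q K) R φ ≤ S := hES.trans kNormalizerIn_le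
  -- the group `A'`
  obtain ⟨A', hA'def⟩ : ∃ A' : Subgroup (MulAut ↥(P ⊔ Q)), A' = ((autInducedBy (kNormalizerIn S Q K) P).comap
      (stabRes (actK F K (le_sup_right : Q ≤ P ⊔ Q)) (le_sup_left : P ≤ P ⊔ Q))).map
        (pairAut F K (le_sup_right : Q ≤ P ⊔ Q) P).subtype := ⟨_, rfl⟩
  have hA'le : A' ≤ pairAut F K (le_sup_right : Q ≤ P ⊔ Q) P := by
    rw [hA'def]
    rintro _ ⟨a, -, rfl⟩
    exact a.2
  have hUA' : autInducedBy S (P ⊔ Q) ⊓ pairAut F K (le_sup_right : Q ≤ P ⊔ Q) P ≤ A' := by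
    rintro u ⟨huS, huA⟩
    rw [hA'def]
    refine ⟨⟨u, huA⟩, ?_, rfl⟩
    show stabRes _ _ ⟨u, huA⟩ ∈ autInducedBy (kNormalizerIn S Q K) P
    rw [← stabRes_map_pairAut F hQ K hP]
    exact ⟨⟨u, huA⟩, Subgroup.mem_subgroupOf.2 ⟨huS, huA⟩, rfl⟩
  have hΓ : (autInducedBy (extender (kNormalizerIn S Q K) R φ) (R ⊔ Q)).map (MulAut.congr e).toMonoidHom ≤ A' := by
    rintro _ ⟨u, hu, rfl⟩
    obtain ⟨g, hgE, hgu⟩ := (mem_autInducedBy_iff u).1 hu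
    obtain ⟨hgS, hgR, h, hh, hgφ⟩ := (mem_extender_iff φ g).1 hgE
    obtain ⟨-, κg, hκg, hκg'⟩ := hgS
    have huF : u ∈ F.autGroup (R ⊔ Q) := F.autInducedBy_le_autGroup hVS (autInducedBy_mono hES' hu)
    have hpair : MulAut.congr e u ∈ pairAut F K (le_sup_right : Q ≤ P ⊔ Q) P := by
      refine ⟨⟨F.congr_mem_autGroup he huF, κ * κg * κ⁻¹, K.mul_mem (K.mul_mem hκ hκg) (K.inv_mem hκ),
        fun x => ?_⟩, fun z => ?_⟩
      · have h1 : (⟨x, Subgroup.mem_sup_right x.2⟩ : ↥(P ⊔ Q)) =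
            e ⟨(κ⁻¹ x : Q), Subgroup.mem_sup_right (κ⁻¹ x).2⟩ := by
          rw [heQ]
          apply Subtype.ext
          show (x : Ω) = ((κ (κ⁻¹ x) : Q) : Ω)
          rw [MulAut.apply_inv_self]
        have h2 : u ⟨(κ⁻¹ x : Q), Subgroup.mem_sup_right (κ⁻¹ x).2⟩ =
            ⟨(κg (κ⁻¹ x) : Q), Subgroup.mem_sup_right (κg (κ⁻¹ x)).2⟩ := by
          apply Subtype.ext
          rw [hgu]
          exact (hκg' _).symm
        rw [h1, congr_apply_apply, h2, heQ]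
        rfl
      · obtain ⟨v, rfl⟩ := e.surjective z
        rw [congr_apply_apply, ← hRP, ← hRP, hgu]
        exact Subgroup.mem_normalizer_iff.1 hgR v
    rw [hA'def]
    refine ⟨⟨_, hpair⟩, ?_, rfl⟩
    show stabRes _ _ ⟨_, hpair⟩ ∈ autInducedBy (kNormalizerIn S Q K) P
    refine (mem_autInducedBy_iff _).2 ⟨h, hh, fun y => ?_⟩
    have hy : (y : Ω) ∈ φ.range := hrange ▸ y.2
    obtain ⟨r, hr⟩ := hy
    have h1 : (⟨y, Subgroup.mem_sup_left y.2⟩ : ↥(P ⊔ Q)) = e ⟨r, Subgroup.mem_sup_left r.2⟩ :=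
      Subtype.ext (hr.symm.trans (heR r).symm)
    show ((MulAut.congr e u ⟨y, Subgroup.mem_sup_left y.2⟩ : ↥(P ⊔ Q)) : Ω) = _
    rw [h1, congr_apply_apply]
    have hgr : g * (r : Ω) * g⁻¹ ∈ R := conj_mem_of_normalizer hgR r.2
    have h2 : u ⟨r, Subgroup.mem_sup_left r.2⟩ = ⟨(⟨g * r * g⁻¹, hgr⟩ : R), Subgroup.mem_sup_left hgr⟩ :=
      Subtype.ext (hgu _)
    rw [h2, heR, hgφ r hgr, hr]
  have hΓp : IsPGroup p ((autInducedBy (extender (kNormalizerIn S Q K) R φ) (R ⊔ Q)).map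
      (MulAut.congr e).toMonoidHom) := (isPGroup_autInducedBy (hS.to_le hES')).map _
  obtain ⟨χ, hχ, hχΓ⟩ := (hsyl.of_le hUA' hA'le).exists_conj_le hΓ hΓp
  have hχF : χ ∈ F.autGroup (P ⊔ Q) := pairAut_le F K _ P (hA'le hχ)
  have he' : F.IsMor (e.trans χ).toMonoidHom := ((F.mem_autGroup_iff hWS χ).1 hχF).comp F he
  have hle : extender (kNormalizerIn S Q K) R φ ⊔ (R ⊔ Q) ≤
      extender S (R ⊔ Q) ((P ⊔ Q).subtype.comp (e.trans χ).toMonoidHom) := by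
    refine sup_le ?_ (le_extender _ hVS hWS)
    intro g hgE
    obtain ⟨hgS, hgR, -⟩ := (mem_extender_iff φ g).1 hgE
    have hgV := normalizer_sup_of_mem hgS hgR
    rw [mem_extender_iff']
    have h1 := hχΓ _ ⟨conjAut g hgV, conjAut_mem hgV hgE, rfl⟩
    obtain ⟨h, hh, hh'⟩ := (mem_autInducedBy_iff _).1 h1.1
    refine ⟨hgS.1, hgV, h, hh, fun x y hy => ?_⟩
    have h2 : y = conjAut g hgV x := Subtype.ext hy
    have h3 := hh' (χ (e x))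
    rw [h2]
    show ((χ (e (conjAut g hgV x)) : ↥(P ⊔ Q)) : Ω) = h * ((χ (e x) : ↥(P ⊔ Q)) : Ω) * h⁻¹
    rw [← h3]
    show _ = ((χ (MulAut.congr e (conjAut g hgV) (χ⁻¹ (χ (e x)))) : ↥(P ⊔ Q)) : Ω)
    rw [MulAut.inv_apply_self, congr_apply_apply]
  obtain ⟨ρ, hρ, hρe⟩ := hrec.exists_extension F (e.trans χ) he' hle
  rw [hA'def] at hχ
  obtain ⟨a, ha, rfl⟩ := hχ
  obtain ⟨s, hs, hsa⟩ := (mem_autInducedBy_iff _).1 ha
  obtain ⟨-, κχ, hκχ, haκ⟩ := a.2.1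
  obtain ⟨hsS, κs, hκs, hκs'⟩ := hs
  have hconj : ∀ x ∈ S, s⁻¹ * x * s⁻¹⁻¹ ∈ S := fun x hx =>
    S.mul_mem (S.mul_mem (S.inv_mem hsS) hx) (S.inv_mem (S.inv_mem hsS))
  have hψ' : F.IsMor ((conjMap s⁻¹ hconj).comp ρ) :=
    (F.isMor_conjMap le_rfl (S.inv_mem hsS) hconj).comp F hρ
  have hQle : Q ≤ extender (kNormalizerIn S Q K) R φ ⊔ (R ⊔ Q) := le_sup_right.trans le_sup_right
  have hRle : R ≤ extender (kNormalizerIn S Q K) R φ ⊔ (R ⊔ Q) := le_sup_left.trans le_sup_right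
  have hres := restrict_mem_kHom F (le_sup_left : extender (kNormalizerIn S Q K) R φ ≤ _) hQle hψ'
    (κ := κs⁻¹ * κχ * κ) (K.mul_mem (K.mul_mem (K.inv_mem hκs) hκχ) hκ) (fun x => by
      show s⁻¹ * ((ρ ⟨x, hQle x.2⟩ : S) : Ω) * s⁻¹⁻¹ = ((κs⁻¹ (κχ (κ x)) : Q) : Ω)
      rw [hρe ⟨x, Subgroup.mem_sup_right x.2⟩ ⟨x, hQle x.2⟩ rfl]
      show s⁻¹ * (((a : MulAut ↥(P ⊔ Q)) (e ⟨x, Subgroup.mem_sup_right x.2⟩) : ↥(P ⊔ Q)) : Ω) * s⁻¹⁻¹ = _
      rw [heQ, haκ]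
      have h1 := hκs' (κs⁻¹ (κχ (κ x)))
      rw [MulAut.apply_inv_self] at h1
      show s⁻¹ * ((κχ (κ x) : Q) : Ω) * s⁻¹⁻¹ = _
      rw [h1]
      group) hES
  refine ⟨_, hres, fun x hxR hxE => ?_⟩
  show s⁻¹ * ((ρ ⟨x, Subgroup.mem_sup_left hxE⟩ : S) : Ω) * s⁻¹⁻¹ = φ ⟨x, hxR⟩
  rw [hρe ⟨x, Subgroup.mem_sup_left hxR⟩ ⟨x, Subgroup.mem_sup_left hxE⟩ rfl]
  show s⁻¹ * (((a : MulAut ↥(P ⊔ Q)) (e ⟨x, Subgroup.mem_sup_left hxR⟩) : ↥(P ⊔ Q)) : Ω) * s⁻¹⁻¹ = _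
  have hφP : φ ⟨x, hxR⟩ ∈ P := hrange ▸ ⟨⟨x, hxR⟩, rfl⟩
  have h1 : e ⟨x, Subgroup.mem_sup_left hxR⟩ = ⟨(⟨φ ⟨x, hxR⟩, hφP⟩ : P), Subgroup.mem_sup_left hφP⟩ :=
    Subtype.ext (heR ⟨x, hxR⟩)
  have h2 := hsa ⟨φ ⟨x, hxR⟩, hφP⟩
  rw [stabRes_coe] at h2
  rw [h1, h2]
  group

/-- Step (a). -/
theorem kNorm_exists_good (hS : IsPGroup p S) (hF : F.IsSaturated p)
    (hdag : ∀ (Q₁ : Subgroup Ω) (θ : Q ≃* Q₁), F.IsMor θ.toMonoidHom →
      ∃ χ ∈ K, ∃ ρ : ↥(kNormalizerIn S Q₁ (K.map (MulAut.congr θ).toMonoidHom) ⊔ Q₁) →* S, F.IsMor ρ ∧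
        ∀ x : Q, ((ρ ⟨θ x, Subgroup.mem_sup_right (θ x).2⟩ : S) : Ω) = χ x)
    {P : Subgroup Ω} (hP : P ≤ kNormalizerIn S Q K) :
    ∃ (W' P' : Subgroup Ω) (hQW' : Q ≤ W'), W' = P' ⊔ Q ∧ P' ≤ kNormalizerIn S Q K ∧
      (F.kNormalizerSystem Q hQ K).IsConj P P' ∧ F.IsReceptive W' ∧
      IsSylowIn p (autInducedBy S W' ⊓ pairAut F K hQW' P') (pairAut F K hQW' P') := by
  have hWS : P ⊔ Q ≤ S := sup_le (hP.trans kNormalizerIn_le) hQ
  obtain ⟨W₁, e₂, he₂, hrec₁, hsyl₁⟩ := exists_sylow_adjust F hS hF hWS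
    (pairAut F K (le_sup_right : Q ≤ P ⊔ Q) P) (pairAut_le F K _ P)
  have hq : (W₁.subtype.comp e₂.toMonoidHom).comp (Subgroup.inclusion (le_sup_right : Q ≤ P ⊔ Q)) ∈ F.Hom Q :=
    F.restrict_mem he₂ le_sup_right
  obtain ⟨Q₁, θ, hθ, hθapp⟩ : ∃ (Q₁ : Subgroup Ω) (θ : Q ≃* Q₁), F.IsMor θ.toMonoidHom ∧
      ∀ x : Q, ((θ x : Q₁) : Ω) = e₂ ⟨x, Subgroup.mem_sup_right x.2⟩ :=
    ⟨_, F.rangeEquiv hq, F.isMor_rangeEquiv hq, fun _ => rfl⟩
  obtain ⟨χ, hχ, ρ, hρ, hρχ⟩ := hdag Q₁ θ hθ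
  have hQ₁W₁ : Q₁ ≤ W₁ := by
    intro y hy
    obtain ⟨z, hz⟩ := θ.surjective ⟨y, hy⟩
    have h1 := hθapp z
    rw [hz] at h1
    have h2 : y = ((e₂ ⟨z, Subgroup.mem_sup_right z.2⟩ : W₁) : Ω) := h1
    rw [h2]
    exact (e₂ _).2
  have hW₁D : W₁ ≤ kNormalizerIn S Q₁ (K.map (MulAut.congr θ).toMonoidHom) ⊔ Q₁ := by
    have h1 : ∀ z : ↥(P ⊔ Q), ((e₂ z : W₁) : Ω) ∈
        kNormalizerIn S Q₁ (K.map (MulAut.congr θ).toMonoidHom) ⊔ Q₁ := by
      apply forall_mem_sup ((kNormalizerIn S Q₁ (K.map (MulAut.congr θ).toMonoidHom) ⊔ Q₁).comap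
        (W₁.subtype.comp e₂.toMonoidHom))
      · intro x
        obtain ⟨-, κx, hκx, hκx'⟩ := hP x.2
        refine Subgroup.mem_sup_left ⟨he₂.mem F _, MulAut.congr θ κx, ⟨κx, hκx, rfl⟩, fun y => ?_⟩
        obtain ⟨z, rfl⟩ := θ.surjective y
        rw [congr_apply_apply, hθapp, hθapp]
        have h2 : (⟨((κx z : Q) : Ω), Subgroup.mem_sup_right (κx z).2⟩ : ↥(P ⊔ Q)) =
            Subgroup.inclusion le_sup_left x * ⟨z, Subgroup.mem_sup_right z.2⟩ *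
              (Subgroup.inclusion le_sup_left x)⁻¹ := Subtype.ext (hκx' z)
        rw [h2, map_mul, map_mul, map_inv]
        rfl
      · intro x
        refine Subgroup.mem_sup_right ?_
        show ((e₂ ⟨x, Subgroup.mem_sup_right x.2⟩ : W₁) : Ω) ∈ Q₁
        rw [← hθapp]
        exact (θ x).2
    intro w hw
    have h2 := h1 (e₂.symm ⟨w, hw⟩)
    rwa [MulEquiv.apply_symm_apply] at h2
  have hC : centralizerIn S W₁ ≤ kNormalizerIn S Q₁ (K.map (MulAut.congr θ).toMonoidHom) ⊔ Q₁ := by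
    intro c hc
    obtain ⟨hcS, hcc⟩ := mem_centralizerIn.1 hc
    refine Subgroup.mem_sup_left ⟨hcS, 1, Subgroup.one_mem _, fun y => ?_⟩
    have h1 := hcc y (hQ₁W₁ y.2)
    show (y : Ω) = _
    rw [← h1, mul_inv_cancel_right]
  have hN : ∀ g ∈ S, ∀ hg : g ∈ Subgroup.normalizer (W₁ : Set Ω),
      conjAut g hg ∈ (pairAut F K (le_sup_right : Q ≤ P ⊔ Q) P).map (MulAut.congr e₂).toMonoidHom →
      g ∈ kNormalizerIn S Q₁ (K.map (MulAut.congr θ).toMonoidHom) ⊔ Q₁ := by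
    rintro g hgS hg ⟨a, ⟨⟨haF, κ, hκ, haκ⟩, haP⟩, hag⟩
    refine Subgroup.mem_sup_left ⟨hgS, MulAut.congr θ κ, ⟨κ, hκ, rfl⟩, fun y => ?_⟩
    obtain ⟨z, rfl⟩ := θ.surjective y
    rw [congr_apply_apply, hθapp, hθapp]
    have h1 : ((conjAut g hg (e₂ ⟨z, Subgroup.mem_sup_right z.2⟩) : W₁) : Ω) =
        g * ((e₂ ⟨z, Subgroup.mem_sup_right z.2⟩ : W₁) : Ω) * g⁻¹ := rfl
    rw [← h1, ← hag]
    show _ = ((MulAut.congr e₂ a (e₂ ⟨z, Subgroup.mem_sup_right z.2⟩) : W₁) : Ω)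
    rw [congr_apply_apply, haκ]
  have hρW : (S.subtype.comp ρ).comp (Subgroup.inclusion hW₁D) ∈ F.Hom W₁ := F.restrict_mem hρ hW₁D
  obtain ⟨W', e₃, he₃m, he₃⟩ : ∃ (W' : Subgroup Ω) (e₃ : W₁ ≃* W'), F.IsMor e₃.toMonoidHom ∧
      ∀ x : W₁, ((e₃ x : W') : Ω) = ρ ⟨x, hW₁D x.2⟩ :=
    ⟨_, F.rangeEquiv hρW, F.isMor_rangeEquiv hρW, fun _ => rfl⟩
  obtain ⟨hrec', hsyl'⟩ := push_sylow F hS hF hW₁D ρ hρ e₃ he₃ _ hC hN hrec₁ hsyl₁
  have hf : F.IsMor (e₂.trans e₃).toMonoidHom := he₃m.comp F he₂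
  have hfQ' : ∀ x : Q, (((e₂.trans e₃) ⟨x, Subgroup.mem_sup_right x.2⟩ : W') : Ω) = χ x := by
    intro x
    show ((e₃ (e₂ ⟨x, Subgroup.mem_sup_right x.2⟩) : W') : Ω) = χ x
    rw [he₃, ← hρχ x]
    congr 2
    exact Subtype.ext (hθapp x).symm
  have hQW' : Q ≤ W' := by
    intro y hy
    have h1 := hfQ' (χ⁻¹ ⟨y, hy⟩)
    rw [MulAut.apply_inv_self] at h1
    have h2 : y = (((e₂.trans e₃) ⟨(χ⁻¹ ⟨y, hy⟩ : Q), Subgroup.mem_sup_right (χ⁻¹ ⟨y, hy⟩ : Q).2⟩ : W') : Ω) :=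
      h1.symm
    rw [h2]
    exact ((e₂.trans e₃) _).2
  have hφ := restrict_mem_kHom F (le_sup_left : P ≤ P ⊔ Q) le_sup_right hf hχ hfQ' hP
  obtain ⟨P', hP'def⟩ : ∃ P' : Subgroup Ω, P' = ((W'.subtype.comp (e₂.trans e₃).toMonoidHom).comp
      (Subgroup.inclusion (le_sup_left : P ≤ P ⊔ Q))).range := ⟨_, rfl⟩
  have hPP' : ∀ z : ↥(P ⊔ Q), (z : Ω) ∈ P ↔ (((e₂.trans e₃) z : W') : Ω) ∈ P' := by
    intro z
    rw [hP'def]
    constructor
    · intro hz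
      exact ⟨⟨z, hz⟩, rfl⟩
    · rintro ⟨x, hx⟩
      have h1 : (e₂.trans e₃) (Subgroup.inclusion le_sup_left x) = (e₂.trans e₃) z := Subtype.ext hx
      have h2 := (e₂.trans e₃).injective h1
      rw [← h2]
      exact x.2
  have hP'W' : P' ≤ W' := by
    rw [hP'def]
    rintro _ ⟨x, rfl⟩
    exact ((e₂.trans e₃) _).2
  have hW'eq : W' = P' ⊔ Q := by
    apply le_antisymm
    · have h1 : ∀ z : ↥(P ⊔ Q), (((e₂.trans e₃) z : W') : Ω) ∈ P' ⊔ Q := by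
        apply forall_mem_sup ((P' ⊔ Q).comap (W'.subtype.comp (e₂.trans e₃).toMonoidHom))
        · intro x
          exact Subgroup.mem_sup_left ((hPP' _).1 x.2)
        · intro x
          refine Subgroup.mem_sup_right ?_
          show (((e₂.trans e₃) ⟨x, Subgroup.mem_sup_right x.2⟩ : W') : Ω) ∈ Q
          rw [hfQ']
          exact (χ x).2
      intro w hw
      have h2 := h1 ((e₂.trans e₃).symm ⟨w, hw⟩)
      rwa [MulEquiv.apply_symm_apply] at h2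
    · exact sup_le hP'W' hQW'
  have hmap : ((pairAut F K (le_sup_right : Q ≤ P ⊔ Q) P).map (MulAut.congr e₂).toMonoidHom).map
      (MulAut.congr e₃).toMonoidHom = pairAut F K hQW' P' := by
    rw [← pairAut_map_eq F K le_sup_right hQW' (e₂.trans e₃) hf hPP' hχ (fun x => Subtype.ext (hfQ' x))]
    ext β
    constructor
    · rintro ⟨_, ⟨a, ha, rfl⟩, rfl⟩
      exact ⟨a, ha, congr_trans e₂ e₃ a⟩
    · rintro ⟨a, ha, rfl⟩
      exact ⟨_, ⟨a, ha, rfl⟩, (congr_trans e₂ e₃ a).symm⟩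
  rw [hmap] at hsyl'
  refine ⟨W', P', hQW', hW'eq, ?_, ⟨_, hφ, hP'def.symm⟩, hrec', hsyl'⟩
  rw [hP'def]
  rintro _ ⟨x, rfl⟩
  exact hφ.2.1 x

/-- Saturation of `N_F^K(Q)`, under the hypothesis that every `F`-conjugate `Q₁` of `Q` admits a map
`N_S^{K₁}(Q₁) Q₁ → S` inducing on `Q₁` the given isomorphism to `Q` up to `K`. -/
theorem kNormalizerSystem_isSaturated (hS : IsPGroup p S) (hF : F.IsSaturated p)
    (hdag : ∀ (Q₁ : Subgroup Ω) (θ : Q ≃* Q₁), F.IsMor θ.toMonoidHom →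
      ∃ χ ∈ K, ∃ ρ : ↥(kNormalizerIn S Q₁ (K.map (MulAut.congr θ).toMonoidHom) ⊔ Q₁) →* S, F.IsMor ρ ∧
        ∀ x : Q, ((ρ ⟨θ x, Subgroup.mem_sup_right (θ x).2⟩ : S) : Ω) = χ x) :
    (F.kNormalizerSystem Q hQ K).IsSaturated p := by
  intro P hP
  obtain ⟨W', P', hQW', hW', hP', hconj, hrec, hsyl⟩ := kNorm_exists_good F hQ K hS hF hdag hP
  subst hW'
  exact ⟨P', hconj, kNorm_isFullyAutomized F hQ K hP' hsyl, kNorm_isReceptive F hQ K hS hP' hrec hsyl⟩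

end steps

theorem castSys_isSaturated {T T' : Subgroup Ω} (h : T = T') (E : FusionSystem T) {p : ℕ}
    (hE : E.IsSaturated p) : (castSys h E).IsSaturated p := by
  subst h
  exact hE

/-- `N_F(Q)` is saturated for `Q` fully normalized. -/
theorem normalizerSystem_isSaturated (F : FusionSystem S) [Finite S] {p : ℕ} [Fact p.Prime]
    (hS : IsPGroup p S) (hF : F.IsSaturated p) {Q : Subgroup Ω} (hQ : F.IsFullyNormalized Q) :
    (F.normalizerSystem Q hQ.1).IsSaturated p := by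
  apply castSys_isSaturated
  apply kNormalizerSystem_isSaturated F hQ.1 ⊤ hS hF
  intro Q₁ θ hθ
  obtain ⟨-, hfa, hrec⟩ := hF.fullyNormalized F hS hQ
  obtain ⟨e, ρ₀, he, hρ₀, hρe⟩ := F.exists_normalizer_map p hS hfa hrec (F.isConj_iff.2 ⟨θ.symm, hθ.symm F⟩)
  have hQ₁S : Q₁ ≤ S := (hθ.symm F).le F
  have hle : kNormalizerIn S Q₁ ((⊤ : Subgroup (MulAut Q)).map (MulAut.congr θ).toMonoidHom) ⊔ Q₁ ≤
      normalizerIn S Q₁ := by
    refine sup_le ?_ (le_normalizerIn hQ₁S)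
    rintro g ⟨hgS, κ, -, hκ⟩
    exact mem_normalizerIn.2 ⟨hgS, mem_normalizer_of_induces κ hκ⟩
  refine ⟨θ.trans e, trivial, (Subgroup.inclusion normalizerIn_le).comp (ρ₀.comp (Subgroup.inclusion hle)),
    IsMor.codomain F (hρ₀.restrict F hle) _ (fun _ => rfl), fun x => ?_⟩
  exact hρe (θ x) _ rfl

/-- `C_F(Q)` is saturated for `Q` fully centralized. -/
theorem centralizerSystem_isSaturated (F : FusionSystem S) [Finite S] {p : ℕ} [Fact p.Prime]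
    (hS : IsPGroup p S) (hF : F.IsSaturated p) {Q : Subgroup Ω} (hQ : F.IsFullyCentralized Q) :
    (F.centralizerSystem Q hQ.1).IsSaturated p := by
  apply castSys_isSaturated
  apply kNormalizerSystem_isSaturated F hQ.1 ⊥ hS hF
  intro Q₁ θ hθ
  have hrec := hF.receptive_of_fullyCentralized F hS hQ
  have hQ₁S : Q₁ ≤ S := (hθ.symm F).le F
  have hle : kNormalizerIn S Q₁ ((⊥ : Subgroup (MulAut Q)).map (MulAut.congr θ).toMonoidHom) ⊔ Q₁ ≤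
      extender S Q₁ (Q.subtype.comp θ.symm.toMonoidHom) := by
    refine sup_le ?_ (le_extender _ hQ₁S hQ.1)
    rw [Subgroup.map_bot, kNormalizerIn_bot]
    exact centralizerIn_le_extender _
  obtain ⟨ρ, hρ, hρe⟩ := hrec.exists_extension F θ.symm (hθ.symm F) hle
  refine ⟨1, Subgroup.one_mem _, ρ, hρ, fun x => ?_⟩
  rw [hρe (θ x) _ rfl, MulEquiv.symm_apply_apply]
  rfl

theorem IsNormalizerSystem.isSaturated (F : FusionSystem S) [Finite S] {p : ℕ} [Fact p.Prime]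
    (hS : IsPGroup p S) (hF : F.IsSaturated p) {Q : Subgroup Ω} (hQ : F.IsFullyNormalized Q)
    {E : FusionSystem (normalizerIn S Q)} (hE : F.IsNormalizerSystem Q E) : E.IsSaturated p := by
  have h : E = F.normalizerSystem Q hQ.1 :=
    ext_hom (fun P => (hE P).trans (F.isNormalizerSystem_normalizerSystem Q hQ.1 P).symm)
  rw [h]
  exact normalizerSystem_isSaturated F hS hF hQ

theorem IsCentralizerSystem.isSaturated (F : FusionSystem S) [Finite S] {p : ℕ} [Fact p.Prime]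
    (hS : IsPGroup p S) (hF : F.IsSaturated p) {Q : Subgroup Ω} (hQ : F.IsFullyCentralized Q)
    {E : FusionSystem (centralizerIn S Q)} (hE : F.IsCentralizerSystem Q E) : E.IsSaturated p := by
  have h : E = F.centralizerSystem Q hQ.1 :=
    ext_hom (fun P => (hE P).trans (F.isCentralizerSystem_centralizerSystem Q hQ.1 P).symm)
  rw [h]
  exact centralizerSystem_isSaturated F hS hF hQ

end Cfsg.Agent.Lib.Helper27.Fus
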