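import Cfsg.Agent.Lib.Helper27.ThreeTrA

/-!
Fischer's rank three property, strong form: the subgroup generated by `C_D(d)` is transitive on the members of `D`
not commuting with `d`.
-/

set_option autoImplicit false

open scoped commutatorElement

namespace Cfsg.Agent.Lib.Helper27.TT

open Cfsg Cfsg.Agent.Lib.Helper27 Cfsg.Agent.Lib.Helper27.W1

universe u

variable {G : Type u} [Group G] {D : Set G}

/-- The subgroup generated by the members of `D` commuting with `d`. -/
def Rd (D : Set G) (d : G) : Subgroup G := Subgroup.closure {u : G | u ∈ D ∧ Commute u d}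

theorem mem_Rd {d u : G} (hu : u ∈ D) (hc : Commute u d) : u ∈ Rd D d := Subgroup.subset_closure ⟨hu, hc⟩

theorem commute_of_mem_Rd {d k : G} (hk : k ∈ Rd D d) : Commute k d := by
  have hle : Rd D d ≤ Subgroup.centralizer {d} := by
    unfold Rd
    rw [Subgroup.closure_le]
    intro y hy
    rw [SetLike.mem_coe, Subgroup.mem_centralizer_singleton_iff]
    exact hy.2.eq
  have := hle hk
  rw [Subgroup.mem_centralizer_singleton_iff] at this
  exact this

theorem closure_Dd_le_Rd (d : G) : Subgroup.closure (Dd D d) ≤ Rd D d :=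
  Subgroup.closure_mono (fun _ hy => ⟨hy.1, hy.2.2.symm⟩)

/-- fusion under the subgroup generated by `C_D(d)`. -/
def Eqw (D : Set G) (d x y : G) : Prop := ∃ g ∈ Rd D d, g * x * g⁻¹ = y

theorem Eqw.refl (d x : G) : Eqw D d x x := ⟨1, Subgroup.one_mem _, by simp⟩

theorem Eqw.symm {d x y : G} (h : Eqw D d x y) : Eqw D d y x := by
  obtain ⟨g, hg, rfl⟩ := h
  exact ⟨g⁻¹, Subgroup.inv_mem _ hg, by group⟩

theorem Eqw.trans {d x y z : G} (h : Eqw D d x y) (h' : Eqw D d y z) : Eqw D d x z := by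
  obtain ⟨g, hg, rfl⟩ := h
  obtain ⟨k, hk, rfl⟩ := h'
  exact ⟨k * g, Subgroup.mul_mem _ hk hg, by group⟩

theorem eqw_of_commute (hT : IsThreeTranspositionSet D) (hconj : ∀ g : G, ∀ d ∈ D, g * d * g⁻¹ ∈ D)
    {d x y : G} (hd : d ∈ D) (hx : x ∈ D) (hy : y ∈ D)
    (hxd : ¬ Commute d x) (hyd : ¬ Commute d y) (hxy : Commute x y) : Eqw D d x y := by
  obtain ⟨h1, h2⟩ := string_lemma hT hx hd hy hxy (fun h => hxd h.symm) hyd
  have hm : x * y * d * y * x ∈ D := by
    have := conj_mem' hT hconj hx (conj_mem' hT hconj hy hd)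
    convert this using 1
    group
  exact ⟨d * (x * y * d * y * x), Subgroup.mul_mem _ (mem_Rd hd (Commute.refl d)) (mem_Rd hm h1), h2⟩

theorem eqw_of_commute_third (hT : IsThreeTranspositionSet D) (hconj : ∀ g : G, ∀ d ∈ D, g * d * g⁻¹ ∈ D)
    {d x y : G} (hx : x ∈ D) (hy : y ∈ D)
    (hxy : ¬ Commute x y) (hz : Commute (x * y * x) d) : Eqw D d x y := by
  refine ⟨x * y * x, mem_Rd (conj_mem' hT hconj hx hy) hz, ?_⟩
  have hb := braid hT hx hy hxy
  rw [mul_inv_rev, mul_inv_rev, inv_eq hT hx, inv_eq hT hy]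
  calc x * y * x * x * (x * (y * x)) = x * y * (x * x) * x * y * x := by group
    _ = x * (y * x * y) * x := by rw [sq hT hx]; group
    _ = x * (x * y * x) * x := by rw [hb]
    _ = y := third_third hT hx

theorem eqw_of_third (hT : IsThreeTranspositionSet D) (hconj : ∀ g : G, ∀ d ∈ D, g * d * g⁻¹ ∈ D)
    {d b x y : G} (hd : d ∈ D) (hb : b ∈ D) (hx : x ∈ D) (hy : y ∈ D) (hbd : Commute b d)
    (hxd : ¬ Commute d x) (hyd : ¬ Commute d y) (hxy : ¬ Commute x y) (hbx : ¬ Commute b x)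
    (hbz : Commute b (x * y * x)) : Eqw D d x y := by
  obtain ⟨z, hz⟩ : ∃ z, z = x * y * x := ⟨_, rfl⟩
  have hzD : z ∈ D := hz ▸ conj_mem' hT hconj hx hy
  rw [← hz] at hbz
  have hxz : ¬ Commute x z := hz ▸ not_commute_third hT hx hxy
  have hyz : y = x * z * x := by rw [hz, third_third hT hx]
  obtain ⟨h1, -⟩ := string_lemma hT hzD hx hb hbz.symm (fun h => hxz h.symm) (fun h => hbx h.symm)
  have hy1 : b * y * b⁻¹ = z * b * x * b * z := by
    rw [hyz, braid hT hx hzD hxz, inv_eq hT hb]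
    calc b * (z * x * z) * b = (b * z) * x * (z * b) := by group
      _ = (z * b) * x * (b * z) := by rw [hbz.eq]
      _ = z * b * x * b * z := by group
  have hy1D : b * y * b⁻¹ ∈ D := hconj b y hy
  have hy1d : ¬ Commute d (b * y * b⁻¹) := by
    intro h
    apply hyd
    have hbd' : b * d * b⁻¹ = d := by rw [hbd.eq, mul_inv_cancel_right]
    rw [← hbd'] at h
    exact (Commute.conj_iff b).1 h
  have h2 : Eqw D d x (b * y * b⁻¹) :=
    eqw_of_commute hT hconj hd hx hy1D hxd hy1d (by rw [hy1]; exact h1.symm)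
  exact h2.trans (Eqw.symm ⟨b, mem_Rd hb hbd, rfl⟩)

theorem comparable' (hT : IsThreeTranspositionSet D) (hconj : ∀ g : G, ∀ d ∈ D, g * d * g⁻¹ ∈ D)
    {d o z : G} (hd : d ∈ D) (ho : o ∈ D) (hz : z ∈ D) (hod : ¬ Commute d o) (hzd : ¬ Commute d z)
    (hne : ¬ Eqw D d o z) : (∀ e ∈ D, Commute e d → Commute e o → Commute e z) ∨
      (∀ e ∈ D, Commute e d → Commute e z → Commute e o) := by
  by_contra hcon
  push Not at hcon
  obtain ⟨⟨e, he, hed, heo, hez⟩, ⟨e', he', hed', hez', heo'⟩⟩ := hcon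
  have hoz : ¬ Commute o z := fun h => hne (eqw_of_commute hT hconj hd ho hz hod hzd h)
  have hfD : o * z * o ∈ D := conj_mem' hT hconj ho hz
  have hfd : ¬ Commute d (o * z * o) := fun h => hne (eqw_of_commute_third hT hconj ho hz hoz h.symm)
  have hb := braid hT ho hz hoz
  have h1 : Eqw D d z (o * z * o) := by
    apply eqw_of_third hT hconj hd he hz hfD hed hzd hfd _ hez
    · rw [hb, third_third hT hz]; exact heo
    · rw [hb]; exact not_commute_third hT hz (fun h => hoz h.symm)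
  have h2 : Eqw D d o (o * z * o) := by
    apply eqw_of_third hT hconj hd he' ho hfD hed' hod hfd _ heo'
    · rw [third_third hT ho]; exact hez'
    · exact not_commute_third hT ho hoz
  exact hne (h2.trans h1.symm)

/-- **Fischer**: the subgroup generated by `C_D(d)` is transitive on `A_d`. -/
theorem Prim.eqw_all [Finite G] (h : Prim D) {d : G} (hd : d ∈ D) :
    ∀ x ∈ D, ∀ y ∈ D, ¬ Commute d x → ¬ Commute d y → Eqw D d x y := by
  have hT := h.cls.1
  have hconj := conj_mem_of_class h.cls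
  intro x hx y hy hxd hyd
  obtain ⟨p, hp, hmin⟩ := Set.exists_min_image {p : G | p ∈ D ∧ ¬ Commute d p}
    (fun p => {e : G | e ∈ D ∧ Commute e d ∧ Commute e p}.ncard) (Set.toFinite _) ⟨x, hx, hxd⟩
  have key : ∀ q ∈ D, ¬ Commute d q → Eqw D d p q := by
    intro q hq hqd
    by_contra hne
    obtain ⟨e₀, he₀, he₀d, he₀p⟩ := h.exists_common hd hp.1 hp.2
    have he₀D : e₀ ∈ Dd D d := by
      refine ⟨he₀, ?_, he₀d.symm⟩
      rintro rfl
      exact hp.2 he₀p
    apply hqd
    apply h.commute_of_commute_cl hd he₀D hq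
    rintro _ ⟨k, hk, rfl⟩
    have hkd := closure_Dd_commute hk
    have hkd' : k⁻¹ * d * k = d := by rw [mul_assoc, ← hkd.eq, inv_mul_cancel_left]
    have hq'D : k⁻¹ * q * k ∈ D := by simpa using hconj k⁻¹ q hq
    have hq'd : ¬ Commute d (k⁻¹ * q * k) := by
      intro h1
      apply hqd
      rw [← hkd'] at h1
      have h2 := (Commute.conj_iff k).2 h1
      convert h2 using 1 <;> group
    have hne' : ¬ Eqw D d p (k⁻¹ * q * k) := by
      intro h1
      exact hne (h1.trans ⟨k, closure_Dd_le_Rd d hk, by group⟩)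
    have hmem : Commute e₀ (k⁻¹ * q * k) := by
      rcases comparable' hT hconj hd hp.1 hq'D hp.2 hq'd hne' with h1 | h1
      · exact h1 e₀ he₀ he₀d he₀p
      · have hsub : {e : G | e ∈ D ∧ Commute e d ∧ Commute e (k⁻¹ * q * k)} ⊆
            {e : G | e ∈ D ∧ Commute e d ∧ Commute e p} := fun e he => ⟨he.1, he.2.1, h1 e he.1 he.2.1 he.2.2⟩
        have heq := Set.eq_of_subset_of_ncard_le hsub (hmin _ ⟨hq'D, hq'd⟩) (Set.toFinite _)
        have : e₀ ∈ {e : G | e ∈ D ∧ Commute e d ∧ Commute e (k⁻¹ * q * k)} := heq ▸ ⟨he₀, he₀d, he₀p⟩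
        exact this.2.2
    have h2 := (Commute.conj_iff k).2 hmem.symm
    convert h2 using 1
    group
  exact (key x hx hxd).symm.trans (key y hy hyd)

end Cfsg.Agent.Lib.Helper27.TT
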