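import Cfsg.Agent.Lib.Helper27.ThreeTrA2
import Cfsg.Agent.Lib.Helper27.FiveString

/-!
Fischer: if two non-commuting members `a, b` of `D_d` have the same commuting members inside `D_d`, then no three
different members of `D` commute pairwise.
-/

set_option autoImplicit false

open scoped commutatorElement

namespace Cfsg.Agent.Lib.Helper27.TT

open Cfsg Cfsg.Agent.Lib.Helper27 Cfsg.Agent.Lib.Helper27.W1

universe u

variable {G : Type u} [Group G] {D : Set G}

/-- every member of `D` commuting with `d` and `a` is `a` or commutes with `b`. -/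
def Sp (D : Set G) (d a b : G) : Prop := ∀ y ∈ D, Commute y d → Commute y a → y = a ∨ Commute y b

theorem Sp.conj (hconj : ∀ g : G, ∀ d ∈ D, g * d * g⁻¹ ∈ D) {d a b : G} (h : Sp D d a b) (g : G) :
    Sp D (g * d * g⁻¹) (g * a * g⁻¹) (g * b * g⁻¹) := by
  intro y hy hyd hya
  have hy' : y = g * (g⁻¹ * y * g) * g⁻¹ := by group
  have hm : g⁻¹ * y * g ∈ D := by simpa using hconj g⁻¹ y hy
  rw [hy'] at hyd hya ⊢
  rw [Commute.conj_iff] at hyd hya ⊢
  rcases h _ hm hyd hya with h1 | h1
  · left; rw [h1]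
  · right; exact h1

/-- `a, b` are non-commuting members of `D_d` with the same commuting members in `D_d`. -/
structure Wr (D : Set G) (d a b : G) : Prop where
  hd : d ∈ D
  ha : a ∈ D
  hb : b ∈ D
  da : Commute d a
  db : Commute d b
  ab : ¬ Commute a b
  sp : Sp D d a b
  sp' : Sp D d b a

theorem Wr.symm {d a b : G} (h : Wr D d a b) : Wr D d b a :=
  ⟨h.hd, h.hb, h.ha, h.db, h.da, fun hc => h.ab hc.symm, h.sp', h.sp⟩

theorem Wr.conj (hconj : ∀ g : G, ∀ d ∈ D, g * d * g⁻¹ ∈ D) {d a b : G} (h : Wr D d a b) (g : G) :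
    Wr D (g * d * g⁻¹) (g * a * g⁻¹) (g * b * g⁻¹) :=
  ⟨hconj g d h.hd, hconj g a h.ha, hconj g b h.hb, (Commute.conj_iff g).2 h.da, (Commute.conj_iff g).2 h.db,
    fun hc => h.ab ((Commute.conj_iff g).1 hc), h.sp.conj hconj g, h.sp'.conj hconj g⟩

theorem Wr.ne {d a b : G} (h : Wr D d a b) : d ≠ a := by
  rintro rfl
  exact h.ab h.db

theorem perm5_c1 : (Equiv.swap 0 4 * Equiv.swap 1 3 : Equiv.Perm (Fin 5)) * Equiv.swap 0 1 *
    (Equiv.swap 0 4 * Equiv.swap 1 3 : Equiv.Perm (Fin 5))⁻¹ = Equiv.swap 3 4 := by decide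

theorem perm5_c2 : (Equiv.swap 0 4 * Equiv.swap 1 3 : Equiv.Perm (Fin 5)) * Equiv.swap 3 4 *
    (Equiv.swap 0 4 * Equiv.swap 1 3 : Equiv.Perm (Fin 5))⁻¹ = Equiv.swap 0 1 := by decide

theorem perm5_c3 : (Equiv.swap 0 4 * Equiv.swap 1 3 : Equiv.Perm (Fin 5)) * Equiv.swap 2 3 *
    (Equiv.swap 0 4 * Equiv.swap 1 3 : Equiv.Perm (Fin 5))⁻¹ = Equiv.swap 1 2 := by decide

/-- (Step 2) -/
theorem Wr.step (hT : IsThreeTranspositionSet D) (hconj : ∀ g : G, ∀ d ∈ D, g * d * g⁻¹ ∈ D) {d a b e : G}
    (h : Wr D d a b) (he : e ∈ D) (hea : e ≠ a) (hc : Commute e a) (hnc : ¬ Commute e b) : Wr D a d e := by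
  have hed : ¬ Commute e d := by
    intro h1
    rcases h.sp e he h1 hc with h2 | h2
    · exact hea h2
    · exact hnc h2
  obtain ⟨φ, -, h1, h2, h3, h4⟩ := four_string hT h.hd he h.hb h.ha h.db h.da hc (fun h1 => hed h1.symm) hnc
    (fun h1 => h.ab h1.symm)
  have key := h.conj hconj (φ (Equiv.swap 0 4 * Equiv.swap 1 3))
  rw [← h1, ← h3, ← h4] at key
  simp only [← map_mul, ← map_inv] at key
  rw [perm5_c1, perm5_c2, perm5_c3, h1, h2, h4] at key
  exact key

/-- (Step 1) -/
theorem Prim.exists_step [Finite G] (h : Prim D) {d a b : G} (hd : d ∈ D) (ha : a ∈ D) (hb : b ∈ D)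
    (hda : Commute d a) (hne : d ≠ a) (hab : ¬ Commute a b) :
    ∃ e ∈ D, e ≠ a ∧ Commute e a ∧ ¬ Commute e b := by
  have hT := h.cls.1
  have hconj := conj_mem_of_class h.cls
  by_contra hcon
  push Not at hcon
  have hS : ({y : G | y ∈ D ∧ Commute a y} ∪ {b}) ⊆ D := by
    rintro y (hy | hy)
    · exact hy.1
    · rw [Set.mem_singleton_iff.1 hy]; exact hb
  have htop := eq_top_of_perp_le h.cls h.prim h.conn ha
    (H := Subgroup.closure ({y : G | y ∈ D ∧ Commute a y} ∪ {b})) (isDSubgroup_closure hS)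
    (fun y hy hc => Subgroup.subset_closure (Or.inl ⟨hy, hc⟩)) hb (Subgroup.subset_closure (Or.inr rfl)) hab
  have hbr := braid hT ha hb hab
  have sa := sq hT ha
  have sb := sq hT hb
  have hinv := conj_mem_of_mem_closure (S := {y : G | y ∈ D ∧ Commute a y} ∪ {b})
    (T := ({a, b, a * b * a} : Set G)) (fun u hu => sq hT (hS hu)) (by
      intro u hu t ht
      have hui := inv_eq hT (hS hu)
      rw [hui]
      rcases hu with hu | hu
      · by_cases hua : u = a
        · rw [hua]
          rcases ht with rfl | rfl | rfl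
          · left; rw [sa, one_mul]
          · right; right; rfl
          · right; left; exact third_third hT ha
        · have h1 : Commute u a := hu.2.symm
          have h2 : Commute u b := hcon u hu.1 hua h1
          have su := sq hT hu.1
          rcases ht with rfl | rfl | rfl
          · left; rw [h1.eq, mul_assoc, su, mul_one]
          · right; left; rw [h2.eq, mul_assoc, su, mul_one]
          · right; right
            have h3 : Commute u (a * b * a) := (h1.mul_right h2).mul_right h1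
            show u * (a * b * a) * u = a * b * a
            rw [h3.eq, mul_assoc (a * b * a), su, mul_one]
      · rw [Set.mem_singleton_iff.1 hu]
        rcases ht with rfl | rfl | rfl
        · right; right; exact hbr.symm
        · right; left; rw [sb, one_mul]
        · left; rw [hbr]; exact third_third hT hb)
  obtain ⟨g, hg⟩ := exists_conj_of_class h.cls ha hd
  have h1 := hinv g (htop ▸ Subgroup.mem_top g) a (by simp)
  rw [hg] at h1
  rcases h1 with h1 | h1 | h1
  · exact hne h1
  · rw [h1] at hda; exact hab hda.symm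
  · rw [h1] at hda
    exact not_commute_third hT ha hab hda.symm

/-- (Step 3a) -/
theorem Wr.of_common (hT : IsThreeTranspositionSet D) (hconj : ∀ g : G, ∀ d ∈ D, g * d * g⁻¹ ∈ D) {d a b m : G}
    (h : Wr D d a b) (hm : m ∈ D) (hma : Commute m a) (hmb : Commute m b) (hmd : ¬ Commute m d) :
    Wr D m a b := by
  have aux : ∀ {a b : G}, Wr D d a b → Commute m a → Commute m b → Sp D m a b := by
    intro a b h hma hmb y hy hym hya
    by_contra hcon
    push Not at hcon
    have w := h.step hT hconj hy hcon.1 hya hcon.2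
    rcases w.sp' m hm hma hym.symm with h1 | h1
    · rw [h1] at hmb; exact hcon.2 hmb
    · exact hmd h1
  exact ⟨hm, h.ha, h.hb, hma, hmb, h.ab, aux h hma hmb, aux h.symm hmb hma⟩

/-- (Step 3b) -/
theorem Wr.sp_all [Finite G] (hP : Prim D) {d a b m : G} (h : Wr D d a b) (hm : m ∈ D) (hma : Commute m a)
    (hmd : ¬ Commute m d) : Sp D a d m := by
  have hT := hP.cls.1
  have hconj := conj_mem_of_class hP.cls
  have hne : m ≠ a := by
    rintro rfl
    exact hmd h.da.symm
  by_cases hmb : Commute m b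
  · have w1 := h.of_common hT hconj hm hma hmb hmd
    obtain ⟨e, he, hea, hec, heb⟩ := hP.exists_step h.hd h.ha h.hb h.da h.ne h.ab
    have w2 := h.step hT hconj he hea hec heb
    have w3 := w1.step hT hconj he hea hec heb
    intro y hy hya hyd
    rcases w2.sp y hy hya hyd with h1 | h1
    · left; exact h1
    · rcases w3.sp' y hy hya h1 with h2 | h2
      · exfalso
        rw [h2] at hyd
        exact w2.ab hyd.symm
      · right; exact h2
  · exact (h.step hT hconj hm hne hma hmb).sp

/-- (Step 4) -/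
theorem Wr.no_common [Finite G] (hP : Prim D) {d a b : G} (h : Wr D d a b) :
    ∀ y ∈ D, Commute y a → Commute y d → y = a ∨ y = d := by
  have hT := hP.cls.1
  have hconj := conj_mem_of_class hP.cls
  intro y hy hya hyd
  by_contra hcon
  push Not at hcon
  have hdD : d ∈ Dd D a := ⟨h.hd, h.ne, h.da.symm⟩
  have hyD : y ∈ Dd D a := ⟨hy, hcon.1, hya.symm⟩
  have hinv := conj_mem_of_mem_closure (S := Dd D a) (T := {u : G | u ∈ Dd D a ∧ (u = d ∨ ¬ Commute u d)})
    (fun u hu => sq hT hu.1) (by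
      intro v hv u hu
      refine ⟨Dd_conj_mem hconj hv.2.2.symm hu.1, ?_⟩
      by_contra hc2
      push Not at hc2
      obtain ⟨hc2, hc3⟩ := hc2
      by_cases hvd : Commute v d
      · have hvd' : v * d * v⁻¹ = d := by rw [hvd.eq, mul_inv_cancel_right]
        rw [← hvd', Commute.conj_iff] at hc3
        rcases hu.2 with h1 | h1
        · rw [h1] at hc2; exact hc2 hvd'
        · exact h1 hc3
      · have hs := h.sp_all hP hv.1 hv.2.2.symm hvd
        have hca : Commute (v * u * v⁻¹) a := (Dd_conj_mem hconj hv.2.2.symm hu.1).2.2.symm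
        rcases hs _ (hconj v u hu.1.1) hca hc3 with h1 | h1
        · exact hc2 h1
        · have h2 : Commute (v * u * v⁻¹) (v * v * v⁻¹) := by rwa [mul_inv_cancel_right]
          rw [Commute.conj_iff] at h2
          have h3 : v * u * v⁻¹ = u := by rw [h2.symm.eq, mul_inv_cancel_right]
          rw [h3] at hc2 hc3
          rcases hu.2 with h4 | h4
          · exact hc2 h4
          · exact h4 hc3)
  obtain ⟨k, hk, hky⟩ := hP.single_class h.ha d hdD y hyD
  have h1 := hinv k hk d ⟨hdD, Or.inl rfl⟩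
  rw [← hky] at h1
  rcases h1.2 with h2 | h2
  · exact hcon.2 h2
  · exact h2 hyd

/-- no three different members of `D` commute pairwise. -/
def NoTriple (D : Set G) : Prop :=
  ∀ u ∈ D, ∀ v ∈ D, u ≠ v → Commute u v → ∀ y ∈ D, Commute y u → Commute y v → y = u ∨ y = v

theorem Wr.noTriple [Finite G] (hP : Prim D) {d a b : G} (h : Wr D d a b) : NoTriple D := by
  have hT := hP.cls.1
  have hconj := conj_mem_of_class hP.cls
  intro u hu v hv huv hc y hy hyu hyv
  obtain ⟨g, rfl⟩ := exists_conj_of_class hP.cls h.ha hu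
  have hv' : v ∈ Dd D (g * a * g⁻¹) := ⟨hv, huv.symm, hc⟩
  rw [mem_Dd_conj hconj] at hv'
  have hdD : d ∈ Dd D a := ⟨h.hd, h.ne, h.da.symm⟩
  obtain ⟨k, hk, hkv⟩ := hP.single_class h.ha d hdD _ hv'
  have hka := closure_Dd_commute hk
  have hka' : k * a * k⁻¹ = a := by rw [hka.eq, mul_inv_cancel_right]
  have e1 : g * a * g⁻¹ = (g * k) * a * (g * k)⁻¹ := by
    rw [mul_inv_rev]
    calc g * a * g⁻¹ = g * (k * a * k⁻¹) * g⁻¹ := by rw [hka']
      _ = g * k * a * (k⁻¹ * g⁻¹) := by group
  have e2 : v = (g * k) * d * (g * k)⁻¹ := by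
    rw [mul_inv_rev]
    calc v = g * (g⁻¹ * v * g) * g⁻¹ := by group
      _ = g * (k * d * k⁻¹) * g⁻¹ := by rw [hkv]
      _ = g * k * d * (k⁻¹ * g⁻¹) := by group
  have e3 : y = (g * k) * ((g * k)⁻¹ * y * (g * k)) * (g * k)⁻¹ := by group
  have hm : (g * k)⁻¹ * y * (g * k) ∈ D := by simpa using hconj (g * k)⁻¹ y hy
  rw [e1] at hyu ⊢
  rw [e2] at hyv ⊢
  rw [e3] at hyu hyv ⊢
  rw [Commute.conj_iff] at hyu hyv
  rcases h.no_common hP _ hm hyu hyv with h1 | h1
  · left; rw [h1]
  · right; rw [h1]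

end Cfsg.Agent.Lib.Helper27.TT
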