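import Cfsg.Agent.Lib.Helper27.ThreeTrX

/-!
Fischer: a primitive class of 3-transpositions without commuting triples has `#D_d ≤ 3`.
-/

set_option autoImplicit false

open scoped commutatorElement

namespace Cfsg.Agent.Lib.Helper27.TT

open Cfsg Cfsg.Agent.Lib.Helper27 Cfsg.Agent.Lib.Helper27.W1

universe u

variable {G : Type u} [Group G] {D : Set G}

theorem ncard_orb_pow [Finite G] {p : ℕ} [Fact p.Prime] {H : Subgroup G} (hH : IsPGroup p H) (x : G) :
    ∃ n : ℕ, (orb H x).ncard = p ^ n := by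
  let _ : MulAction H G := MulAction.compHom G ((MulAut.conj : G →* MulAut G).comp H.subtype)
  have h1 : MulAction.orbit H x = orb H x := by
    ext y
    constructor
    · rintro ⟨h, rfl⟩
      exact ⟨h, h.2, rfl⟩
    · rintro ⟨h, hh, rfl⟩
      exact ⟨⟨h, hh⟩, rfl⟩
  obtain ⟨n, hn⟩ := hH.card_orbit x
  rw [Nat.card_coe_set_eq, h1] at hn
  exact ⟨n, hn⟩

theorem commute_of_conj_eq {g a : G} (h : g * a * g⁻¹ = a) : Commute g a := by
  show g * a = a * g
  calc g * a = g * a * g⁻¹ * g := by group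
    _ = a * g := by rw [h]

theorem not_commute_of_noTriple (hN : NoTriple D) {d x y : G} (hd : d ∈ D) (hx : x ∈ Dd D d) (hy : y ∈ Dd D d)
    (hxy : x ≠ y) : ¬ Commute x y := by
  intro hc
  rcases hN x hx.1 y hy.1 hxy hc d hd hx.2.2 hy.2.2 with h1 | h1
  · exact hx.2.1 h1.symm
  · exact hy.2.1 h1.symm

/-- a 3-subgroup of `C(d)` containing all products of two members of `D_d`. -/
theorem exists_three_group [Finite G] (hT : IsThreeTranspositionSet D)
    (hconj : ∀ g : G, ∀ d ∈ D, g * d * g⁻¹ ∈ D) (hN : NoTriple D) {d : G} (hd : d ∈ D) :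
    ∃ P : Subgroup G, IsPGroup 3 P ∧ (∀ p ∈ P, Commute p d) ∧ ∀ x ∈ Dd D d, ∀ y ∈ Dd D d, x * y ∈ P := by
  obtain ⟨C, hC⟩ : ∃ C : Subgroup G, C = Subgroup.centralizer {d} := ⟨_, rfl⟩
  have hmemC : ∀ g : G, g ∈ C ↔ Commute g d := by
    intro g
    rw [hC, Subgroup.mem_centralizer_singleton_iff]
    exact Iff.rfl
  have hH : IsHall {y : C | (y : G) ∈ Dd D d} := by
    refine ⟨fun x hx => Subtype.ext (sq hT hx.1), fun x hx y hy => Subtype.ext ?_, fun x hx y hy => ?_⟩
    · show ((x : G) * (y : G)) ^ 3 = 1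
      by_cases hxy : (x : G) = y
      · rw [hxy, sq hT hy.1, one_pow]
      · exact cube_of_not_commute hT hx.1 hy.1 (not_commute_of_noTriple hN hd hx hy hxy)
    · show (x : G) * (y : G) * (x : G) ∈ Dd D d
      have := Dd_conj_mem hconj hx.2.2.symm hy
      rwa [inv_eq hT hx.1] at this
  have hcj : ∀ g : C, ∀ y ∈ {y : C | (y : G) ∈ Dd D d}, g * y * g⁻¹ ∈ {y : C | (y : G) ∈ Dd D d} := by
    intro g y hy
    exact Dd_conj_mem hconj ((hmemC g).1 g.2) hy
  refine ⟨(pCore 3 C).map C.subtype, (isPGroup_pCore 3 C).map _, ?_, ?_⟩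
  · rintro _ ⟨c, -, rfl⟩
    exact (hmemC c).1 c.2
  · intro x hx y hy
    have hxC : x ∈ C := (hmemC x).2 hx.2.2.symm
    have hyC : y ∈ C := (hmemC y).2 hy.2.2.symm
    exact ⟨⟨x, hxC⟩ * ⟨y, hyC⟩, mul_mem_pCore_three hH hcj (a := ⟨x, hxC⟩) (b := ⟨y, hyC⟩) hx hy, rfl⟩

/-- decomposition of the subgroup generated by `C_D(d)`. -/
theorem Rd_decomp (hT : IsThreeTranspositionSet D) {d a : G} (hd : d ∈ D) (ha : a ∈ Dd D d) {P : Subgroup G}
    (hPd : ∀ p ∈ P, Commute p d) (hP : ∀ x ∈ Dd D d, ∀ y ∈ Dd D d, x * y ∈ P) :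
    ∀ g ∈ Rd D d, g ∈ P ∨ g * a ∈ P ∨ g * d ∈ P ∨ g * a * d ∈ P := by
  have sd := sq hT hd
  have sa := sq hT ha.1
  have hda : Commute d a := ha.2.2
  have step : ∀ g y : G, y ∈ D → Commute y d → (g ∈ P ∨ g * a ∈ P ∨ g * d ∈ P ∨ g * a * d ∈ P) →
      (g * y ∈ P ∨ g * y * a ∈ P ∨ g * y * d ∈ P ∨ g * y * a * d ∈ P) := by
    intro g y hy hyd hg
    by_cases hyd' : y = d
    · subst hyd'
      rcases hg with h | h | h | h
      · right; right; left
        rwa [mul_assoc, sd, mul_one]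
      · right; right; right
        have : g * y * a * y = g * a := by
          rw [mul_assoc g y a, hda.eq, mul_assoc, mul_assoc, sd, mul_one]
        rwa [this]
      · left; exact h
      · right; left
        have : g * y * a = g * a * y := by rw [mul_assoc, hda.eq, mul_assoc]
        rwa [this]
    · have hyD : y ∈ Dd D d := ⟨hy, hyd', hyd.symm⟩
      have hya := hP y hyD a ha
      have hay := hP a ha y hyD
      rcases hg with h | h | h | h
      · right; left
        rw [mul_assoc]; exact P.mul_mem h hya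
      · left
        have : g * y = g * a * (a * y) := by rw [mul_assoc, ← mul_assoc a a y, sa, one_mul]
        rw [this]; exact P.mul_mem h hay
      · right; right; right
        have : g * y * a * d = g * d * (y * a) := by
          rw [mul_assoc g y a, mul_assoc g (y * a) d, (hPd _ hya).eq, mul_assoc]
        rw [this]; exact P.mul_mem h hya
      · right; right; left
        have : g * y * d = g * a * d * (a * y) := by
          rw [mul_assoc (g * a) d, ← (hPd _ hay).eq, mul_assoc g a, ← mul_assoc a (a * y) d, ← mul_assoc a a y, sa,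
            one_mul, mul_assoc]
        rw [this]; exact P.mul_mem h hay
  intro g hg
  unfold Rd at hg
  induction hg using Subgroup.closure_induction_right with
  | one => left; exact P.one_mem
  | mul_right x _ y hy ih => exact step x y hy.1 hy.2 ih
  | mul_inv_cancel x _ y hy ih =>
    rw [inv_eq hT hy.1]
    exact step x y hy.1 hy.2 ih

/-- the stabilizer of `a` in a 3-subgroup, together with `d`, is transitive on `D_a - {d}`. -/
theorem Prim.trans_aux [Finite G] (hP : Prim D) (hN : NoTriple D) {d a : G} (hd : d ∈ D) (ha : a ∈ Dd D d)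
    {P : Subgroup G} (hPd : ∀ p ∈ P, Commute p d) (hPP : ∀ x ∈ Dd D d, ∀ y ∈ Dd D d, x * y ∈ P) {e e' : G}
    (he : e ∈ Dd D a) (hed : e ≠ d) (he' : e' ∈ Dd D a) (hed' : e' ≠ d) :
    ∃ p ∈ P, Commute p a ∧ (p * e * p⁻¹ = e' ∨ p * (d * e * d) * p⁻¹ = e') := by
  have hT := hP.cls.1
  have hconj := conj_mem_of_class hP.cls
  have sd := sq hT hd
  have sa := sq hT ha.1
  have hda : Commute d a := ha.2.2
  have hnc : ∀ e ∈ Dd D a, e ≠ d → ¬ Commute d e := by
    intro e he hed hc
    rcases hN d hd a ha.1 ha.2.1.symm hda e he.1 hc.symm he.2.2.symm with h1 | h1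
    · exact hed h1
    · exact he.2.1 h1
  obtain ⟨g, hg, hge⟩ := hP.eqw_all hd e he.1 e' he'.1 (hnc e he hed) (hnc e' he' hed')
  -- adjust `g` so that it centralizes `a`
  obtain ⟨g, hg, hga, hge⟩ : ∃ g ∈ Rd D d, Commute g a ∧ g * e * g⁻¹ = e' := by
    by_cases hga : g * a * g⁻¹ = a
    · exact ⟨g, hg, commute_of_conj_eq hga, hge⟩
    · obtain ⟨a', ha'⟩ : ∃ a', a' = g * a * g⁻¹ := ⟨_, rfl⟩
      rw [← ha'] at hga
      have hgd := commute_of_mem_Rd hg
      have ha'D : a' ∈ Dd D d := ha' ▸ Dd_conj_mem hconj hgd ha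
      have ha'e : Commute a' e' := by
        rw [ha', ← hge, Commute.conj_iff]
        exact he.2.2
      have hnc' : ¬ Commute a' a := not_commute_of_noTriple hN hd ha'D ha hga
      have hhD : a' * a * a' ∈ D := conj_mem' hT hconj ha'D.1 ha.1
      have hhd : Commute (a' * a * a') d := (ha'D.2.2.symm.mul_left hda.symm).mul_left ha'D.2.2.symm
      have hhe : Commute (a' * a * a') e' := (ha'e.mul_left he'.2.2).mul_left ha'e
      have hb := braid hT ha'D.1 ha.1 hnc'
      have hconj2 : (a' * a * a') * a' * (a' * a * a')⁻¹ = a := by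
        rw [mul_inv_rev, mul_inv_rev, inv_eq hT ha'D.1, inv_eq hT ha.1]
        calc a' * a * a' * a' * (a' * (a * a')) = a' * a * (a' * a') * a' * a * a' := by group
          _ = a' * (a * a' * a) * a' := by rw [sq hT ha'D.1]; group
          _ = a' * (a' * a * a') * a' := by rw [hb]
          _ = a := third_third hT ha'D.1
      refine ⟨a' * a * a' * g, Subgroup.mul_mem _ (mem_Rd hhD hhd) hg, ?_, ?_⟩
      · apply commute_of_conj_eq
        calc (a' * a * a' * g) * a * (a' * a * a' * g)⁻¹ = (a' * a * a') * (g * a * g⁻¹) * (a' * a * a')⁻¹ := by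
              group
          _ = a := by rw [← ha', hconj2]
      · calc a' * a * a' * g * e * (a' * a * a' * g)⁻¹ = (a' * a * a') * (g * e * g⁻¹) * (a' * a * a')⁻¹ := by group
          _ = e' := by rw [hge, hhe.eq, mul_inv_cancel_right]
  have hae : Commute a e := he.2.2
  rcases Rd_decomp hT hd ha hPd hPP g hg with h | h | h | h
  · exact ⟨g, h, hga, Or.inl hge⟩
  · refine ⟨g * a, h, hga.mul_left (Commute.refl a), Or.inl ?_⟩
    rw [← hge, mul_inv_rev, inv_eq hT ha.1]
    calc g * a * e * (a * g⁻¹) = g * (a * e) * a * g⁻¹ := by group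
      _ = g * (e * a) * a * g⁻¹ := by rw [hae.eq]
      _ = g * e * (a * a) * g⁻¹ := by group
      _ = g * e * g⁻¹ := by rw [sa, mul_one]
  · refine ⟨g * d, h, hga.mul_left hda, Or.inr ?_⟩
    rw [← hge, mul_inv_rev, inv_eq hT hd]
    calc g * d * (d * e * d) * (d * g⁻¹) = g * (d * d) * e * (d * d) * g⁻¹ := by group
      _ = g * e * g⁻¹ := by rw [sd, mul_one, mul_one]
  · refine ⟨g * a * d, h, (hga.mul_left (Commute.refl a)).mul_left hda, Or.inr ?_⟩
    rw [← hge, mul_inv_rev, mul_inv_rev, inv_eq hT hd, inv_eq hT ha.1]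
    calc g * a * d * (d * e * d) * (d * (a * g⁻¹)) = g * a * (d * d) * e * (d * d) * a * g⁻¹ := by group
      _ = g * (a * e) * a * g⁻¹ := by rw [sd, mul_one, mul_one]; group
      _ = g * (e * a) * a * g⁻¹ := by rw [hae.eq]
      _ = g * e * (a * a) * g⁻¹ := by group
      _ = g * e * g⁻¹ := by rw [sa, mul_one]

/-- `#D_a` is a power of 3. -/
theorem ncard_Dd_pow [Finite G] (hT : IsThreeTranspositionSet D) (hconj : ∀ g : G, ∀ d ∈ D, g * d * g⁻¹ ∈ D)
    (hN : NoTriple D) {a d : G} (ha : a ∈ D) (hd : d ∈ Dd D a) : ∃ n : ℕ, (Dd D a).ncard = 3 ^ n := by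
  have : Fact (Nat.Prime 3) := ⟨Nat.prime_three⟩
  obtain ⟨P, hP3, hPa, hPP⟩ := exists_three_group hT hconj hN ha
  have h1 : Dd D a = orb P d := by
    ext u
    constructor
    · intro hu
      refine ⟨d * u, hPP d hd u hu, ?_⟩
      rw [mul_inv_rev, inv_eq hT hd.1, inv_eq hT hu.1]
      by_cases hdu : d = u
      · rw [← hdu, sq hT hd.1, one_mul, mul_one]
      · have hb := braid hT hd.1 hu.1 (not_commute_of_noTriple hN ha hd hu hdu)
        calc u = d * (d * u * d) * d := (third_third hT hd.1).symm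
          _ = d * (u * d * u) * d := by rw [hb]
          _ = d * u * d * (u * d) := by group
    · rintro ⟨p, hp, rfl⟩
      exact Dd_conj_mem hconj (hPa p hp) hd
  rw [h1]
  exact ncard_orb_pow hP3 d

/-- **Fischer**: without commuting triples, `D_a` is a line. -/
theorem Prim.Dd_subset [Finite G] (hP : Prim D) (hN : NoTriple D) {a d e : G} (ha : a ∈ D) (hd : d ∈ Dd D a)
    (he : e ∈ Dd D a) (hed : e ≠ d) : ∀ y ∈ Dd D a, y = d ∨ y = e ∨ y = d * e * d := by
  have hT := hP.cls.1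
  have hconj := conj_mem_of_class hP.cls
  have : Fact (Nat.Prime 3) := ⟨Nat.prime_three⟩
  have haD : a ∈ Dd D d := ⟨ha, hd.2.1.symm, hd.2.2.symm⟩
  obtain ⟨P, hP3, hPd, hPP⟩ := exists_three_group hT hconj hN hd.1
  obtain ⟨P', hP'⟩ : ∃ P' : Subgroup G, P' = P ⊓ Subgroup.centralizer {a} := ⟨_, rfl⟩
  have hP'3 : IsPGroup 3 P' := hP3.to_le (hP' ▸ inf_le_left)
  have hP'd : ∀ p ∈ P', Commute p d := fun p hp => hPd p (hP' ▸ hp : p ∈ P ⊓ Subgroup.centralizer {a}).1
  have hP'a : ∀ p ∈ P', Commute p a := by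
    intro p hp
    have h1 : p ∈ Subgroup.centralizer {a} := (hP' ▸ hp : p ∈ P ⊓ Subgroup.centralizer {a}).2
    rw [Subgroup.mem_centralizer_singleton_iff] at h1
    exact h1
  have hstab : ∀ p ∈ P', ∀ x ∈ {x : G | x ∈ Dd D a ∧ x ≠ d}, p * x * p⁻¹ ∈ {x : G | x ∈ Dd D a ∧ x ≠ d} := by
    intro p hp x hx
    refine ⟨Dd_conj_mem hconj (hP'a p hp) hx.1, fun h => hx.2 ?_⟩
    have h1 : p * d * p⁻¹ = d := by rw [(hP'd p hp).eq, mul_inv_cancel_right]
    rw [← h1] at h
    exact mul_left_cancel (mul_right_cancel h)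
  let _ : MulAction P' {x : G | x ∈ Dd D a ∧ x ≠ d} :=
    { smul := fun p x => ⟨p * x * p⁻¹, hstab p p.2 x x.2⟩
      one_smul := fun x => Subtype.ext (by show (1 : G) * x * (1 : G)⁻¹ = x; simp)
      mul_smul := fun p q x => Subtype.ext (by
        show ((p : G) * q) * x * ((p : G) * q)⁻¹ = p * (q * x * (q : G)⁻¹) * (p : G)⁻¹
        group) }
  have hcard : ¬ 3 ∣ Nat.card {x : G | x ∈ Dd D a ∧ x ≠ d} := by
    rw [Nat.card_coe_set_eq]
    have h1 : {x : G | x ∈ Dd D a ∧ x ≠ d} = Dd D a \ {d} := by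
      ext x; simp
    rw [h1, Set.ncard_sdiff_singleton_of_mem hd]
    obtain ⟨n, hn⟩ := ncard_Dd_pow hT hconj hN ha hd
    rw [hn]
    rcases n with _ | n
    · exfalso
      rw [pow_zero, Set.ncard_eq_one] at hn
      obtain ⟨z, hz⟩ := hn
      rw [hz] at hd he
      exact hed (he.trans hd.symm)
    · rw [pow_succ]
      have : 0 < 3 ^ n := by positivity
      omega
  obtain ⟨e₀, he₀⟩ := hP'3.nonempty_fixed_point_of_prime_not_dvd_card _ hcard
  have hfix : ∀ p ∈ P', p * (e₀ : G) * p⁻¹ = e₀ := fun p hp => congrArg Subtype.val (he₀ ⟨p, hp⟩)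
  have key : ∀ y ∈ Dd D a, y ≠ d → y = e₀ ∨ y = d * e₀ * d := by
    intro y hy hyd
    obtain ⟨p, hp, hpa, h1⟩ := hP.trans_aux hN hd.1 haD hPd hPP e₀.2.1 e₀.2.2 hy hyd
    have hp' : p ∈ P' := by
      rw [hP']
      refine ⟨hp, ?_⟩
      show p ∈ Subgroup.centralizer {a}
      rw [Subgroup.mem_centralizer_singleton_iff]
      exact hpa
    rcases h1 with h1 | h1
    · left; rw [← h1, hfix p hp']
    · right
      rw [← h1]
      have hpd := hP'd p hp'
      calc p * (d * e₀ * d) * p⁻¹ = (p * d) * e₀ * (d * p⁻¹) := by group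
        _ = (d * p) * e₀ * (p⁻¹ * d) := by rw [hpd.eq, hpd.inv_left.eq]
        _ = d * (p * e₀ * p⁻¹) * d := by group
        _ = d * e₀ * d := by rw [hfix p hp']
  intro y hy
  by_cases hyd : y = d
  · left; exact hyd
  · right
    rcases key e he hed with h1 | h1 <;> rcases key y hy hyd with h2 | h2
    · left; rw [h1, h2]
    · right; rw [h1, h2]
    · right; rw [h1, h2, third_third hT hd.1]
    · left; rw [h1, h2]

end Cfsg.Agent.Lib.Helper27.TT
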