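import Cfsg.Agent.Lib.Helper27.ThreeTrY

/-!
Fischer: if two non-commuting members `a, b` of `D_d` have the same commuting members inside `D_d`, then `G ≅ S₅`.
-/

set_option autoImplicit false

open scoped commutatorElement

namespace Cfsg.Agent.Lib.Helper27.TT

open Cfsg Cfsg.Agent.Lib.Helper27 Cfsg.Agent.Lib.Helper27.W1

universe u

variable {G : Type u} [Group G] {D : Set G}

theorem perm5_d1 : (Equiv.swap 0 3 * Equiv.swap 1 4 : Equiv.Perm (Fin 5)) * Equiv.swap 0 1 *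
    (Equiv.swap 0 3 * Equiv.swap 1 4 : Equiv.Perm (Fin 5))⁻¹ = Equiv.swap 3 4 := by decide

theorem perm5_d2 : (Equiv.swap 0 2 * Equiv.swap 1 3 : Equiv.Perm (Fin 5)) * Equiv.swap 0 1 *
    (Equiv.swap 0 2 * Equiv.swap 1 3 : Equiv.Perm (Fin 5))⁻¹ = Equiv.swap 2 3 := by decide

theorem perm5_d3 : (Equiv.swap 0 2 * Equiv.swap 1 4 : Equiv.Perm (Fin 5)) * Equiv.swap 0 1 *
    (Equiv.swap 0 2 * Equiv.swap 1 4 : Equiv.Perm (Fin 5))⁻¹ =
    Equiv.swap 3 4 * Equiv.swap 2 3 * Equiv.swap 3 4 := by decide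

theorem Wr.iso [Finite G] (hP : Prim D) {d a b : G} (h : Wr D d a b) :
    Nonempty (G ≃* Equiv.Perm (Fin 5)) := by
  have hT := hP.cls.1
  have hconj := conj_mem_of_class hP.cls
  have hN := h.noTriple hP
  obtain ⟨e, he, hea, hec, heb⟩ := hP.exists_step h.hd h.ha h.hb h.da h.ne h.ab
  have hed : ¬ Commute e d := by
    intro h1
    rcases h.sp e he h1 hec with h2 | h2
    · exact hea h2
    · exact heb h2
  obtain ⟨φ, hinj, h1, h2, h3, h4⟩ := four_string hT h.hd he h.hb h.ha h.db h.da hec (fun h1 => hed h1.symm) heb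
    (fun h1 => h.ab h1.symm)
  have haD : a ∈ Dd D d := ⟨h.ha, h.ne.symm, h.da⟩
  have hbD : b ∈ Dd D d := ⟨h.hb, fun hbd => h.ab (hbd ▸ h.da.symm), h.db⟩
  have hline := hP.Dd_subset hN h.hd haD hbD (fun hba => h.ab (hba ▸ Commute.refl a))
  have hstep : ∀ u y : G, (∃ σ, u = φ σ * d * (φ σ)⁻¹) → y ∈ D → Commute u y → ∃ σ, y = φ σ * d * (φ σ)⁻¹ := by
    rintro _ y ⟨σ, rfl⟩ hy hc
    by_cases hyu : y = φ σ * d * (φ σ)⁻¹
    · exact ⟨σ, hyu⟩
    · have hy' : y ∈ Dd D (φ σ * d * (φ σ)⁻¹) := ⟨hy, hyu, hc⟩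
      rw [mem_Dd_conj hconj] at hy'
      have hyy : y = φ σ * ((φ σ)⁻¹ * y * φ σ) * (φ σ)⁻¹ := by group
      rcases hline _ hy' with h5 | h5 | h5
      · refine ⟨σ * (Equiv.swap 0 3 * Equiv.swap 1 4), ?_⟩
        rw [hyy, h5, ← h4, ← perm5_d1, ← h1]
        simp only [map_mul, map_inv, mul_inv_rev]
        group
      · refine ⟨σ * (Equiv.swap 0 2 * Equiv.swap 1 3), ?_⟩
        rw [hyy, h5, ← h3, ← perm5_d2, ← h1]
        simp only [map_mul, map_inv, mul_inv_rev]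
        group
      · refine ⟨σ * (Equiv.swap 0 2 * Equiv.swap 1 4), ?_⟩
        have h6 : a * b * a = φ (Equiv.swap 3 4 * Equiv.swap 2 3 * Equiv.swap 3 4) := by
          rw [map_mul, map_mul, h3, h4]
        rw [hyy, h5, h6, ← perm5_d3, ← h1]
        simp only [map_mul, map_inv, mul_inv_rev]
        group
  have hreach : ∀ v p' : D, (p' : G) = d → (commutingGraph D).Reachable v p' →
      ∃ σ, (v : G) = φ σ * d * (φ σ)⁻¹ := by
    intro v p' hp' hr
    obtain ⟨w⟩ := hr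
    induction w with
    | nil => exact ⟨1, by rw [hp']; simp⟩
    | @cons u w v hadj _ ih =>
      have hc : Commute (u : G) (w : G) := by
        have := hadj
        unfold commutingGraph at this
        rw [SimpleGraph.fromRel_adj] at this
        rcases this.2 with h1 | h1
        · exact h1
        · exact h1.symm
      exact hstep w u (ih hp') u.2 hc.symm
  have hsurj : Function.Surjective φ := by
    rw [← MonoidHom.range_eq_top, eq_top_iff, ← hP.cls.2.2, Subgroup.closure_le]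
    intro v hv
    obtain ⟨σ, hσ⟩ := hreach ⟨v, hv⟩ ⟨d, h.hd⟩ rfl (hP.conn.preconnected _ _)
    refine ⟨σ * Equiv.swap 0 1 * σ⁻¹, ?_⟩
    rw [map_mul, map_mul, map_inv, h1]
    exact hσ.symm
  exact ⟨(MulEquiv.ofBijective φ ⟨hinj, hsurj⟩).symm⟩

end Cfsg.Agent.Lib.Helper27.TT
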